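import Groth.Agent.Contract17.Factor
import Groth.Agent.S2102
import Groth.Agent.Neron6.BirOpen
import Mathlib.RingTheory.RingHom.Smooth
import Mathlib.AlgebraicGeometry.Morphisms.Smooth

/-!
# Integrality and normality of `Spec (f_* Sym L)`
-/

set_option autoImplicit false
set_option linter.style.haveILetI false
set_option backward.isDefEq.respectTransparency false
set_option backward.isDefEq.respectTransparency.types false

universe u

open CategoryTheory CategoryTheory.Limits AlgebraicGeometry TopologicalSpace Opposite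

noncomputable section

namespace Groth.Agent.Contract17

open Groth.Agent Groth.Agent.SymAlgX

variable {X : Scheme.{u}} {L : X.Modules} {𝒜 : RelSpec.QCAlg X} {jL : L ⟶ 𝒜.toModule}

/-- The sections of `Sym L` over an affine open with a frame are a polynomial ring. -/
theorem exists_polynomial_equiv (hLq : Coh.IsQCoh L) (hA : RelSpec.IsSymAlg L 𝒜 jL) {U : X.Opens}
    (hU : IsAffineOpen U) (e : Γ(L, U)) (he : InvX.IsFrame e) :
    ∃ k : Polynomial Γ(X, U) ≃+* 𝒜.presheaf.obj (op U),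
      ∀ r, k (Polynomial.C r) = (𝒜.str.app (op U)).hom r := by
  let evT : Polynomial Γ(X, U) →+* 𝒜.presheaf.obj (op U) :=
    Polynomial.eval₂RingHom (𝒜.str.app (op U)).hom (jv 𝒜 jL U e)
  let c : Γ(L, U) ≃ₗ[Γ(X, U)] Γ(X, U) :=
    (LinearEquiv.ofBijective (LinearMap.toSpanSingleton Γ(X, U) Γ(L, U) e) (QRel17.bijective_of_isFrame he)).symm
  have hce : c e = 1 := by
    apply c.symm.injective
    rw [c.symm_apply_apply]
    exact (one_smul Γ(X, U) e).symm
  have hc : ∀ x, c x • e = x := fun x => c.symm_apply_apply x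
  let Φ : SymAt L U →+* Polynomial Γ(X, U) := liftHom Polynomial.C
    { toFun := fun x => Polynomial.C (c x) * Polynomial.X
      map_zero' := by simp
      map_add' := fun a b => by simp [add_mul] }
    fun r x => by simp [mul_assoc]
  have h1 : evT.comp Φ = liftAt 𝒜 jL U := by
    refine symHom_ext (fun r => ?_) fun x => ?_
    · rw [RingHom.comp_apply, liftHom_algebraMap, liftAt_algebraMap]
      exact Polynomial.eval₂_C _ _
    · rw [RingHom.comp_apply, liftHom_ι, liftAt_ι]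
      show Polynomial.eval₂ _ _ (Polynomial.C (c x) * Polynomial.X) = _
      rw [Polynomial.eval₂_mul, Polynomial.eval₂_C, Polynomial.eval₂_X]
      conv_rhs => rw [← hc x]
      exact (Scheme.Modules.Hom.app_smul jL (c x) e).symm
  let k : SymAt L U ≃+* 𝒜.presheaf.obj (op U) :=
    RingEquiv.ofBijective (liftAt 𝒜 jL U) (liftAt_bijective hLq 𝒜 hA hU)
  have h2 : (Φ.comp k.symm.toRingHom).comp evT = RingHom.id _ := by
    refine Polynomial.ringHom_ext (fun r => ?_) ?_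
    · show Φ (k.symm (Polynomial.eval₂ _ _ (Polynomial.C r))) = _
      rw [Polynomial.eval₂_C, ← liftAt_algebraMap]
      erw [k.symm_apply_apply (algebraMap Γ(X, U) (SymAt L U) r)]
      exact liftHom_algebraMap _ _ _ r
    · show Φ (k.symm (Polynomial.eval₂ _ _ Polynomial.X)) = _
      rw [Polynomial.eval₂_X, ← liftAt_ι]
      erw [k.symm_apply_apply (SymmetricAlgebra.ι Γ(X, U) Γ(L, U) e), liftHom_ι]
      show Polynomial.C (c e) * Polynomial.X = _
      rw [hce, map_one, one_mul]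
      rfl
  refine ⟨RingEquiv.ofBijective evT ⟨Function.LeftInverse.injective (g := Φ.comp k.symm.toRingHom)
    (RingHom.congr_fun h2), fun b => ⟨Φ (k.symm b), ?_⟩⟩, fun r => Polynomial.eval₂_C _ _⟩
  exact (RingHom.congr_fun h1 _).trans (k.apply_symm_apply b)

theorem range_opens_π (U : X.Opens) (hU : IsAffineOpen U) :
    Set.range (𝒜.π ⁻¹ᵁ U).ι = Set.range (𝒜.ι U hU) := by
  rw [Scheme.Opens.range_ι, 𝒜.π_preimage U hU]
  rfl

theorem smooth_π (hL : PicF.IsInvertible L) (hLq : Coh.IsQCoh L) (hA : RelSpec.IsSymAlg L 𝒜 jL) :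
    Smooth 𝒜.π := by
  choose W hW hxW _ s hs using fun x : X => QRel17.exists_affine_frame hL (show x ∈ (⊤ : X.Opens) from trivial)
  refine IsZariskiLocalAtSource.of_openCover (P := @Smooth)
    (𝒜.spec.openCoverOfIsOpenCover (fun x => 𝒜.π ⁻¹ᵁ W x)
      (IsOpenCover.comap (v := W) (eq_top_iff.mpr fun x _ => Opens.mem_iSup.mpr ⟨x, hxW x⟩)
        𝒜.π.base.1)) fun x => ?_
  show Smooth ((𝒜.π ⁻¹ᵁ W x).ι ≫ 𝒜.π)
  rw [← IsOpenImmersion.isoOfRangeEq_hom_fac _ _ (range_opens_π (W x) (hW x)), Category.assoc, 𝒜.ι_π]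
  haveI : Smooth (Spec.map (𝒜.str.app (op (W x)))) := by
    rw [HasRingHomProperty.Spec_iff (P := @Smooth)]
    letI := (𝒜.str.app (op (W x))).hom.toAlgebra
    show RingHom.Smooth (algebraMap Γ(X, W x) (𝒜.presheaf.obj (op (W x))))
    rw [RingHom.smooth_algebraMap]
    obtain ⟨k, hk⟩ := exists_polynomial_equiv hLq hA (hW x) (s x) (hs x)
    haveI : Algebra.FinitePresentation Γ(X, W x) (Polynomial Γ(X, W x)) :=
      Algebra.FinitePresentation.equiv (MvPolynomial.uniqueAlgEquiv.{_, 0} Γ(X, W x) PUnit)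
    haveI : Algebra.Smooth Γ(X, W x) (Polynomial Γ(X, W x)) := ⟨inferInstance, inferInstance⟩
    exact Algebra.Smooth.of_equiv (AlgEquiv.ofRingEquiv (f := k) fun r => hk r)
  infer_instance

/-- Over an affine open with a frame inside an integral open, `V(L)` is integral. -/
theorem isIntegral_preimage (hLq : Coh.IsQCoh L) (hA : RelSpec.IsSymAlg L 𝒜 jL) {U : X.Opens}
    (hU : IsAffineOpen U) [IsIntegral (U : Scheme.{u})] (e : Γ(L, U)) (he : InvX.IsFrame e) :
    IsIntegral ((𝒜.π ⁻¹ᵁ U : 𝒜.spec.Opens) : Scheme.{u}) := by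
  obtain ⟨k, -⟩ := exists_polynomial_equiv hLq hA hU e he
  haveI : IsDomain Γ(X, U) := (U.topIso.commRingCatIsoToRingEquiv.symm).toMulEquiv.isDomain Γ((U : Scheme.{u}), ⊤)
  haveI : IsDomain (𝒜.presheaf.obj (op U)) := k.symm.toMulEquiv.isDomain (Polynomial Γ(X, U))
  let e' := IsOpenImmersion.isoOfRangeEq (𝒜.π ⁻¹ᵁ U).ι (𝒜.ι U hU) (range_opens_π U hU)
  haveI : Nonempty ((𝒜.π ⁻¹ᵁ U : 𝒜.spec.Opens) : Scheme.{u}) := ⟨e'.inv (Classical.arbitrary _)⟩
  exact isIntegral_of_isOpenImmersion e'.hom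

theorem exists_integral_nhd (hL : PicF.IsInvertible L) (hLq : Coh.IsQCoh L) (hA : RelSpec.IsSymAlg L 𝒜 jL)
    (hX : ∀ x : X, ∃ U : X.Opens, x ∈ U ∧ IsIntegral (U : Scheme.{u})) (v : 𝒜.spec) :
    ∃ (W : X.Opens), 𝒜.π v ∈ W ∧ IsIntegral ((𝒜.π ⁻¹ᵁ W : 𝒜.spec.Opens) : Scheme.{u}) := by
  obtain ⟨U, hxU, hU⟩ := hX (𝒜.π v)
  obtain ⟨W, hW, hxW, hWU, s, hs⟩ := QRel17.exists_affine_frame hL hxU
  haveI : Nonempty (W : Scheme.{u}) := ⟨⟨_, hxW⟩⟩
  haveI : IsIntegral (W : Scheme.{u}) := isIntegral_of_isOpenImmersion (X.homOfLE hWU)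
  exact ⟨W, hxW, isIntegral_preimage hLq hA hW s hs⟩

/-- A scheme covered by integral opens any two of which meet is integral. -/
theorem isIntegral_of_cover {V : Scheme.{u}} [Nonempty V]
    (h : ∀ v : V, ∃ A : V.Opens, v ∈ A ∧ IsIntegral (A : Scheme.{u}))
    (hmeet : ∀ A B : V.Opens, IsIntegral (A : Scheme.{u}) → IsIntegral (B : Scheme.{u}) →
      ((A : Set V) ∩ B).Nonempty) : IsIntegral V := by
  have hirr : ∀ A : V.Opens, IsIntegral (A : Scheme.{u}) → IsPreirreducible (A : Set V) := fun A hA => by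
    have h1 : IsPreirreducible (Set.univ : Set (A : Scheme.{u})) := PreirreducibleSpace.isPreirreducible_univ
    have h2 := h1.image A.ι A.ι.continuous.continuousOn
    rwa [Set.image_univ, Scheme.Opens.range_ι] at h2
  haveI : PreirreducibleSpace V := ⟨fun O O' hO hO' ⟨a, _, ha⟩ ⟨b, _, hb⟩ => by
    obtain ⟨A, haA, hA⟩ := h a
    obtain ⟨B, hbB, hB⟩ := h b
    obtain ⟨c, hcA, hcB⟩ := hmeet A B hA hB
    obtain ⟨d, hdA, hdO, hdB⟩ := hirr A hA O B hO B.2 ⟨a, haA, ha⟩ ⟨c, hcA, hcB⟩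
    obtain ⟨e, -, heO, heO'⟩ := hirr B hB O O' hO hO' ⟨d, hdB, hdO⟩ ⟨b, hbB, hb⟩
    exact ⟨e, trivial, heO, heO'⟩⟩
  haveI : IrreducibleSpace V := { toNonempty := inferInstance }
  haveI : ∀ v : V, _root_.IsReduced (V.presheaf.stalk v) := fun v => by
    obtain ⟨A, hvA, hA⟩ := h v
    exact isReduced_of_injective (asIso (A.ι.stalkMap ⟨v, hvA⟩)).hom.hom
      (ConcreteCategory.bijective_of_isIso (asIso (A.ι.stalkMap ⟨v, hvA⟩)).hom).1
  haveI : AlgebraicGeometry.IsReduced V := isReduced_of_isReduced_stalk V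
  exact isIntegral_of_irreducibleSpace_of_isReduced V

theorem isIntegral_spec (hL : PicF.IsInvertible L) (hLq : Coh.IsQCoh L) (hA : RelSpec.IsSymAlg L 𝒜 jL)
    [IsIntegral X] : IsIntegral 𝒜.spec := by
  have hfib : ∀ x : X, ∃ v, 𝒜.π v = x := fun x => by
    obtain ⟨W, hW, hxW, -, s, hs⟩ := QRel17.exists_affine_frame hL (show x ∈ (⊤ : X.Opens) from trivial)
    obtain ⟨𝔭, rfl⟩ := hW.range_fromSpec.ge hxW
    obtain ⟨k, hk⟩ := exists_polynomial_equiv hLq hA hW s hs
    let z := Spec.map (CommRingCat.ofHom ((Polynomial.evalRingHom (0 : Γ(X, W))).comp k.symm.toRingHom)) 𝔭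
    refine ⟨𝒜.ι W hW z, ?_⟩
    rw [← Scheme.Hom.comp_apply, 𝒜.ι_π, Scheme.Hom.comp_apply]
    refine congrArg hW.fromSpec (PrimeSpectrum.ext (Ideal.ext fun r => ?_))
    show Polynomial.eval 0 (k.symm ((𝒜.str.app (op W)).hom r)) ∈ 𝔭.asIdeal ↔ r ∈ 𝔭.asIdeal
    rw [← hk, RingEquiv.symm_apply_apply, Polynomial.eval_C]
  have hX : ∀ x : X, ∃ U : X.Opens, x ∈ U ∧ IsIntegral (U : Scheme.{u}) := fun x => by
    obtain ⟨W, hW, hxW, -⟩ := exists_isAffineOpen_mem_and_subset (X := X) (x := x) (U := ⊤) trivial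
    haveI : Nonempty (W : Scheme.{u}) := ⟨⟨_, hxW⟩⟩
    exact ⟨W, hxW, isIntegral_of_isOpenImmersion W.ι⟩
  haveI : Nonempty 𝒜.spec := ⟨(hfib (genericPoint X)).choose⟩
  refine isIntegral_of_cover (fun v => ?_) fun A B hA' hB' => ?_
  · obtain ⟨W, hv, hW⟩ := exists_integral_nhd hL hLq hA hX v
    exact ⟨_, hv, hW⟩
  · haveI := smooth_π hL hLq hA
    obtain ⟨a⟩ : Nonempty (A : Scheme.{u}) := inferInstance
    obtain ⟨b⟩ : Nonempty (B : Scheme.{u}) := inferInstance
    obtain ⟨WA, ha, hWA⟩ := exists_integral_nhd hL hLq hA hX a.1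
    obtain ⟨WB, hb, hWB⟩ := exists_integral_nhd hL hLq hA hX b.1
    obtain ⟨x, hxA, hxB⟩ := nonempty_preirreducible_inter WA.2 WB.2 ⟨_, ha⟩ ⟨_, hb⟩
    obtain ⟨v, rfl⟩ := hfib x
    have hirr : ∀ W : X.Opens, IsIntegral ((𝒜.π ⁻¹ᵁ W : 𝒜.spec.Opens) : Scheme.{u}) →
        IsPreirreducible ((𝒜.π ⁻¹ᵁ W : 𝒜.spec.Opens) : Set 𝒜.spec) := fun W hW => by
      have h1 : IsPreirreducible (Set.univ : Set ((𝒜.π ⁻¹ᵁ W : 𝒜.spec.Opens) : Scheme.{u})) :=
        PreirreducibleSpace.isPreirreducible_univ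
      have h2 := h1.image (𝒜.π ⁻¹ᵁ W).ι (𝒜.π ⁻¹ᵁ W).ι.continuous.continuousOn
      rwa [Set.image_univ, Scheme.Opens.range_ι] at h2
    obtain ⟨d, hdA, hdW, hdB⟩ := hirr WA hWA A (𝒜.π ⁻¹ᵁ WB) A.2 (𝒜.π ⁻¹ᵁ WB).2 ⟨a.1, ha, a.2⟩ ⟨v, hxA, hxB⟩
    obtain ⟨e, -, heA, heB⟩ := hirr WB hWB A B A.2 B.2 ⟨d, hdB, hdW⟩ ⟨b.1, hb, b.2⟩
    exact ⟨e, heA, heB⟩

theorem mem_finset_inf {T : Type*} [TopologicalSpace T] {ι : Type*} (t : Finset ι) (F : ι → Opens T) (z : T) :
    z ∈ t.inf F ↔ ∀ v ∈ t, z ∈ F v := by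
  classical
  induction t using Finset.induction_on with
  | empty => simp
  | insert a t _ ih => rw [Finset.inf_insert, Opens.mem_inf, ih, Finset.forall_mem_insert]

section pushed

variable {Y V C : Scheme.{u}} {h : V ⟶ Y} [QuasiCompact h] {g : C ⟶ Y} [IsAffineHom g]
  {q : V ⟶ C} (hq : q ≫ g = h) (hc : IsIso q.c)

include hc in
theorem isIntegral_of_isIso_c [IsIntegral V] [QuasiCompact q] : IsIntegral C := by
  have hbij := app_bijective_of_isIso_c q hc
  haveI : AlgebraicGeometry.IsReduced C :=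
    ⟨fun U => isReduced_of_injective _ (hbij U).1⟩
  haveI : Nonempty C := ⟨q (genericPoint V)⟩
  haveI : IrreducibleSpace C :=
  { toPreirreducibleSpace := ⟨by
      have hdense : DenseRange q := fun z => by
        rw [mem_closure_iff]
        intro O hO hzO
        obtain ⟨D, hD, hzD, hDO⟩ := exists_isAffineOpen_mem_and_subset (X := C) (x := z) (U := ⟨O, hO⟩) hzO
        by_contra hne
        have hbot : q ⁻¹ᵁ D = ⊥ := eq_bot_iff.2 fun v hv => hne ⟨q v, hDO hv, v, rfl⟩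
        haveI : Subsingleton Γ(V, q ⁻¹ᵁ D) := CommRingCat.subsingleton_of_isTerminal (V.sheaf.isTerminalOfEqEmpty hbot)
        haveI : Subsingleton Γ(C, D) := (hbij D).1.subsingleton
        exact not_subsingleton (C.presheaf.stalk z) ((C.presheaf.germ D z hzD).hom.codomain_trivial)
      have h1 : IsPreirreducible (Set.univ : Set V) := PreirreducibleSpace.isPreirreducible_univ
      have h2 := (h1.image q q.continuous.continuousOn).closure
      rwa [Set.image_univ, hdense.closure_range] at h2⟩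
    toNonempty := inferInstance }
  exact isIntegral_of_irreducibleSpace_of_isReduced C

include hq hc in
theorem isNormalScheme_of_isIso_c (hV : Pi1.IsNormalScheme V)
    (hloc : ∀ v : V, ∃ A : V.Opens, v ∈ A ∧ IsIntegral (A : Scheme.{u})) : Pi1.IsNormalScheme C := by
  classical
  intro z
  obtain ⟨U, hU, hzU, -⟩ := exists_isAffineOpen_mem_and_subset (X := Y) (x := g z) (U := ⊤) trivial
  have hgU := hU.preimage g
  set Ω : V.Opens := h ⁻¹ᵁ U
  have hΩ : q ⁻¹ᵁ (g ⁻¹ᵁ U) = Ω := by rw [← Scheme.Hom.comp_preimage, hq]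
  have hbij := app_bijective_of_isIso_c q hc
  choose A hA hAi using hloc
  obtain ⟨t, ht⟩ := (h.isCompact_preimage hU.isCompact).elim_finite_subcover (fun v : V => (A v : Set V))
    (fun v => (A v).2) (fun v _ => Set.mem_iUnion.2 ⟨v, hA v⟩)
  have hirr : ∀ B : V.Opens, IsIntegral (B : Scheme.{u}) → IsPreirreducible (B : Set V) := fun B hB => by
    have h1 : IsPreirreducible (Set.univ : Set (B : Scheme.{u})) := PreirreducibleSpace.isPreirreducible_univ
    have h2 := h1.image B.ι B.ι.continuous.continuousOn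
    rwa [Set.image_univ, Scheme.Opens.range_ι] at h2
  -- the clopen pieces
  let Z : V → Set V := fun v => closure ((A v : Set V) ∩ Ω) ∩ Ω
  have hZopen : ∀ v, IsOpen (Z v) := fun v => by
    refine isOpen_iff_mem_nhds.2 fun w hw => ?_
    have hsub : (A w : Set V) ∩ Ω ⊆ Z v := fun w' hw' => by
      refine ⟨?_, hw'.2⟩
      rw [mem_closure_iff]
      intro O hO hw'O
      obtain ⟨c, hcw, hcv⟩ := mem_closure_iff.1 hw.1 _ (A w).2 (hA w)
      obtain ⟨d, -, hdO, hdv⟩ := hirr (A w) (hAi w) (O ∩ Ω) (((A v : Set V) ∩ Ω)) (hO.inter Ω.2)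
        ((A v).2.inter Ω.2) ⟨w', hw'.1, hw'O, hw'.2⟩ ⟨c, hcw, hcv⟩
      exact ⟨d, hdO.1, hdv⟩
    exact Filter.mem_of_superset (((A w).2.inter Ω.2).mem_nhds ⟨hA w, hw.2⟩) hsub
  let Wop : V → V.Opens := fun v => ⟨Z v, hZopen v⟩
  let Wc : V → V.Opens := fun v => ⟨(closure ((A v : Set V) ∩ Ω))ᶜ ∩ Ω, isClosed_closure.isOpen_compl.inter Ω.2⟩
  have hcovW : ∀ v, Ω ≤ Wop v ⊔ Wc v := fun v w hw => by
    by_cases h' : w ∈ closure ((A v : Set V) ∩ Ω)
    · exact Or.inl ⟨h', hw⟩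
    · exact Or.inr ⟨h', hw⟩
  have hdisj : ∀ v, Wop v ⊓ Wc v = ⊥ := fun v => eq_bot_iff.2 fun w hw => hw.2.1 hw.1.1
  have he : ∀ v, ∃ e : Γ(V, Ω), V.basicOpen e = Wop v ∧ V.basicOpen (1 - e) = Wc v := fun v => by
    let W : Bool → V.Opens := fun b => cond b (Wop v) (Wc v)
    have hle : ∀ b, W b ≤ Ω := fun b => by cases b <;> exact fun w hw => hw.2
    let sf : ∀ b, Γ(V, W b) := fun b => match b with
      | true => 1
      | false => 0
    obtain ⟨e, he, -⟩ : ∃ e : Γ(V, Ω), (∀ b, (V.presheaf.map (homOfLE (hle b)).op).hom e = sf b) ∧ _ := V.sheaf.existsUnique_gluing' W Ω (fun b => homOfLE (hle b))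
      (fun w hw => (hcovW v hw).elim (fun h' => Opens.mem_iSup.2 ⟨true, h'⟩) (fun h' => Opens.mem_iSup.2 ⟨false, h'⟩))
      sf (by
        intro a b
        cases a <;> cases b <;> first
          | rfl
          | (haveI : Subsingleton (ToType (V.sheaf.obj.obj (op (W true ⊓ W false)))) :=
              CommRingCat.subsingleton_of_isTerminal (V.sheaf.isTerminalOfEqEmpty (hdisj v))
             exact Subsingleton.elim _ _)
          | (haveI : Subsingleton (ToType (V.sheaf.obj.obj (op (W false ⊓ W true)))) :=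
              CommRingCat.subsingleton_of_isTerminal (V.sheaf.isTerminalOfEqEmpty ((inf_comm _ _).trans (hdisj v)))
             exact Subsingleton.elim _ _))
    have h1 : (V.presheaf.map (homOfLE (hle true)).op).hom e = (1 : Γ(V, Wop v)) := he true
    have h0 : (V.presheaf.map (homOfLE (hle false)).op).hom e = (0 : Γ(V, Wc v)) := he false
    have key : ∀ (x : Γ(V, Ω)) (u' : Γ(V, Wop v)) (z' : Γ(V, Wc v)),
        (V.presheaf.map (homOfLE (hle true)).op).hom x = u' → (V.presheaf.map (homOfLE (hle false)).op).hom x = z' →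
        V.basicOpen x = V.basicOpen u' ⊔ V.basicOpen z' := fun x u' z' hu hz => by
      have hr : ∀ b, V.basicOpen ((V.presheaf.map (homOfLE (hle b)).op).hom x) = W b ⊓ V.basicOpen x :=
        fun b => V.basicOpen_res x _
      rw [← hu, ← hz, hr, hr, ← inf_sup_right]
      exact (inf_eq_right.2 ((V.basicOpen_le x).trans (hcovW v))).symm
    refine ⟨e, ?_, ?_⟩
    · rw [key e 1 0 h1 h0, Scheme.basicOpen_zero, sup_bot_eq]
      exact Scheme.basicOpen_of_isUnit _ isUnit_one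
    · rw [key (1 - e) 0 1 (by rw [map_sub, map_one, h1, sub_self]) (by rw [map_sub, map_one, h0, sub_zero]),
        Scheme.basicOpen_zero, bot_sup_eq]
      exact Scheme.basicOpen_of_isUnit _ isUnit_one
  choose e he1 he0 using he
  have hbijU : Function.Bijective ((V.presheaf.map (eqToHom hΩ.symm).op).hom ∘ (q.app (g ⁻¹ᵁ U)).hom) :=
    (ConcreteCategory.bijective_of_isIso (V.presheaf.map (eqToHom hΩ.symm).op)).comp (hbij _)
  choose f hf using fun v => hbijU.2 (e v)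
  have hqf : ∀ v, q ⁻¹ᵁ C.basicOpen (f v) = Wop v := fun v => by
    rw [← he1 v, ← hf v, Function.comp_apply, Scheme.basicOpen_res, Scheme.preimage_basicOpen]
    exact (inf_eq_right.2 ((V.basicOpen_le _).trans hΩ.le)).symm
  have hqf0 : ∀ v, q ⁻¹ᵁ C.basicOpen (1 - f v) = Wc v := fun v => by
    rw [← he0 v, ← hf v, Function.comp_apply, ← map_one (V.presheaf.map (eqToHom hΩ.symm).op).hom, ← map_sub,
      ← map_one (q.app (g ⁻¹ᵁ U)).hom, ← map_sub, Scheme.basicOpen_res, Scheme.preimage_basicOpen]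
    exact (inf_eq_right.2 ((V.basicOpen_le _).trans hΩ.le)).symm
  -- one of the pieces sits over `z`
  obtain ⟨v, hvt, hzf⟩ : ∃ v ∈ t, z ∈ C.basicOpen (f v) := by
    by_contra hne
    push Not at hne
    have h2 : ∀ v ∈ t, z ∈ C.basicOpen (1 - f v) := fun v hv => by
      by_contra h'
      rw [Scheme.mem_basicOpen (X := C) (U := g ⁻¹ᵁ U) _ z hzU] at h'
      have h'' := hne v hv
      rw [Scheme.mem_basicOpen (X := C) (U := g ⁻¹ᵁ U) _ z hzU] at h''
      refine (IsLocalRing.maximalIdeal.isMaximal (C.presheaf.stalk z)).ne_top ((Ideal.eq_top_iff_one _).2 ?_)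
      have h1 := Ideal.add_mem _ ((IsLocalRing.mem_maximalIdeal _).2 h'') ((IsLocalRing.mem_maximalIdeal _).2 h')
      rwa [← map_add, add_sub_cancel, map_one] at h1
    let O : C.Opens := g ⁻¹ᵁ U ⊓ t.inf fun v => C.basicOpen (1 - f v)
    have hzO : z ∈ O := by
      refine ⟨hzU, ?_⟩
      exact (mem_finset_inf _ _ _).2 h2
    have hbot : q ⁻¹ᵁ O = ⊥ := eq_bot_iff.2 fun w hw => by
      have hwΩ : w ∈ Ω := hΩ.le hw.1
      obtain ⟨v, hv, hwv⟩ := Set.mem_iUnion₂.1 (ht hwΩ)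
      have h3 : w ∈ q ⁻¹ᵁ C.basicOpen (1 - f v) := (mem_finset_inf _ _ _).1 hw.2 v hv
      rw [hqf0] at h3
      exact h3.1 (subset_closure ⟨hwv, hwΩ⟩)
    haveI : Subsingleton Γ(V, q ⁻¹ᵁ O) := CommRingCat.subsingleton_of_isTerminal (V.sheaf.isTerminalOfEqEmpty hbot)
    haveI : Subsingleton Γ(C, O) := (hbij O).1.subsingleton
    exact not_subsingleton (C.presheaf.stalk z) ((C.presheaf.germ O z hzO).hom.codomain_trivial)
  set D := C.basicOpen (f v)
  have hD : IsAffineOpen D := hgU.basicOpen (f v)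
  haveI : Nonempty (Wop v : Scheme.{u}) := by
    by_contra hne
    have hbot : q ⁻¹ᵁ D = ⊥ := eq_bot_iff.2 fun w hw => hne ⟨⟨w, (hqf v).le hw⟩⟩
    haveI : Subsingleton Γ(V, q ⁻¹ᵁ D) := CommRingCat.subsingleton_of_isTerminal (V.sheaf.isTerminalOfEqEmpty hbot)
    haveI : Subsingleton Γ(C, D) := (hbij D).1.subsingleton
    exact not_subsingleton (C.presheaf.stalk z) ((C.presheaf.germ D z hzf).hom.codomain_trivial)
  haveI : IsIntegral (Wop v : Scheme.{u}) := by
    haveI : PreirreducibleSpace (Wop v : Scheme.{u}) := by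
      have h1 : IsPreirreducible ((A v : Set V) ∩ Ω) := (hirr (A v) (hAi v)).open_subset
        ((A v).2.inter Ω.2) Set.inter_subset_left
      have h2 : IsPreirreducible (Z v) := fun O O' hO hO' ⟨a, ha, haO⟩ ⟨b, hb, hbO⟩ => by
        obtain ⟨a', ha'O, ha'⟩ := mem_closure_iff.1 ha.1 O hO haO
        obtain ⟨b', hb'O, hb'⟩ := mem_closure_iff.1 hb.1 O' hO' hbO
        obtain ⟨c, hc, hcO⟩ := h1 O O' hO hO' ⟨a', ha', ha'O⟩ ⟨b', hb', hb'O⟩
        exact ⟨c, ⟨subset_closure hc, hc.2⟩, hcO⟩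
      exact Subtype.preirreducibleSpace h2
    haveI : IrreducibleSpace (Wop v : Scheme.{u}) := { toNonempty := inferInstance }
    haveI : ∀ w : (Wop v : Scheme.{u}), _root_.IsReduced ((Wop v : Scheme.{u}).presheaf.stalk w) := fun w => by
      haveI := (hV ((Wop v).ι w)).1
      exact isReduced_of_injective (asIso ((Wop v).ι.stalkMap w)).inv.hom
        (ConcreteCategory.bijective_of_isIso (asIso ((Wop v).ι.stalkMap w)).inv).1
    haveI : AlgebraicGeometry.IsReduced (Wop v : Scheme.{u}) := isReduced_of_isReduced_stalk _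
    exact isIntegral_of_irreducibleSpace_of_isReduced _
  have hWn : Pi1.IsNormalScheme (Wop v : Scheme.{u}) := fun w => by
    let e' := (asIso ((Wop v).ι.stalkMap w)).commRingCatIsoToRingEquiv
    haveI := (hV ((Wop v).ι w)).1
    haveI := (hV ((Wop v).ι w)).2
    exact ⟨e'.symm.toMulEquiv.isDomain _, IsIntegrallyClosed.of_equiv e'⟩
  have eD : Γ(C, D) ≃+* Γ((Wop v : Scheme.{u}), ⊤) :=
    ((RingEquiv.ofBijective (q.app D).hom (hbij D)).trans
      (V.presheaf.mapIso (eqToIso (hqf v).symm).op).commRingCatIsoToRingEquiv).trans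
      (Wop v).topIso.commRingCatIsoToRingEquiv.symm
  haveI : IsIntegrallyClosed Γ((Wop v : Scheme.{u}), ⊤) := S2102.result _ hWn
  haveI : IsDomain Γ(C, D) := eD.toMulEquiv.isDomain Γ((Wop v : Scheme.{u}), ⊤)
  haveI : IsIntegrallyClosed Γ(C, D) := IsIntegrallyClosed.of_equiv eD.symm
  letI := TopCat.Presheaf.algebra_section_stalk C.presheaf ⟨z, hzf⟩
  haveI := hD.isLocalization_stalk ⟨z, hzf⟩
  set 𝔭 := (hD.primeIdealOf ⟨z, hzf⟩).asIdeal
  have hM : 𝔭.primeCompl ≤ nonZeroDivisors Γ(C, D) := le_nonZeroDivisors_of_noZeroDivisors fun h0 => h0 (zero_mem 𝔭)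
  exact ⟨IsLocalization.isDomain_of_le_nonZeroDivisors _ hM,
    isIntegrallyClosed_of_isLocalization _ 𝔭.primeCompl hM⟩

end pushed

end Groth.Agent.Contract17
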