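import Groth.Agent.Contract17.Stein
import Groth.Agent.S3567
import Mathlib.AlgebraicGeometry.Morphisms.UniversallyInjective

/-!
# Factoring a contraction through the canonical one
-/

set_option autoImplicit false
set_option linter.style.haveILetI false
set_option backward.isDefEq.respectTransparency false
set_option backward.isDefEq.respectTransparency.types false

universe u

open CategoryTheory CategoryTheory.Limits AlgebraicGeometry TopologicalSpace Opposite

noncomputable section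

namespace Groth.Agent.Contract17

open Groth.Agent

theorem isQuotientMap_of_isClosedMap_surjective {V C : Scheme.{u}} (q : V ⟶ C) [UniversallyClosed q]
    (h : Function.Surjective q) : Topology.IsQuotientMap q :=
  q.isClosedMap.isQuotientMap q.continuous h

theorem isIso_residueFieldMap_of_isPreimmersion {X Y : Scheme.{u}} (f : X ⟶ Y) [IsPreimmersion f] (x : X) :
    IsIso (f.residueFieldMap x) := by
  rw [ConcreteCategory.isIso_iff_bijective]
  refine ⟨RingHom.injective _, fun z => ?_⟩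
  obtain ⟨a, rfl⟩ := X.residue_surjective x z
  obtain ⟨b, rfl⟩ := f.stalkMap_surjective x a
  exact ⟨(Y.residue (f x)).hom b, (congr($(Scheme.residue_residueFieldMap f x).hom b))⟩

/-- A point with values in a field lands in the image of a preimmersion iff it factors. -/
theorem exists_lift_of_mem_range {X Y : Scheme.{u}} (f : X ⟶ Y) [IsPreimmersion f] {K : Type u} [Field K]
    (a : Spec (CommRingCat.of K) ⟶ Y) (h : a (IsLocalRing.closedPoint K) ∈ Set.range f) :
    ∃ t : Spec (CommRingCat.of K) ⟶ X, t ≫ f = a := by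
  obtain ⟨⟨z, φ⟩, rfl⟩ := (Y.SpecToEquivOfField K).symm.surjective a
  rw [Scheme.SpecToEquivOfField_symm_apply] at h ⊢
  rw [Scheme.Hom.comp_apply, Scheme.fromSpecResidueField_apply] at h
  obtain ⟨x, rfl⟩ := h
  haveI := isIso_residueFieldMap_of_isPreimmersion f x
  refine ⟨Spec.map (inv (f.residueFieldMap x) ≫ φ) ≫ X.fromSpecResidueField x, ?_⟩
  rw [Category.assoc, ← f.SpecMap_residueFieldMap_fromSpecResidueField x, ← Spec.map_comp_assoc,
    IsIso.hom_inv_id_assoc]

variable {X Y C C' : Scheme.{u}} {V : Scheme.{u}} {p : X ⟶ Y} {j0 : X ⟶ V} {V0 : V.Opens}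
  (hV0 : (V0 : Set V) = (Set.range j0)ᶜ)
  {g : C ⟶ Y} {ε : Y ⟶ C} (hε : ε ≫ g = 𝟙 Y) {q : V ⟶ C} (hjq : j0 ≫ q = p ≫ ε)
  {g' : C' ⟶ Y} {ε' : Y ⟶ C'} (hε' : ε' ≫ g' = 𝟙 Y) {q' : V ⟶ C'} (hjq' : j0 ≫ q' = p ≫ ε')
  [IsOpenImmersion (V0.ι ≫ q')] (hr' : Set.range (V0.ι ≫ q') = (Set.range ε')ᶜ)

include hV0 hjq hε' hjq' hr' in
theorem constant_on_fibres {a b : V} (hab : q' a = q' b) : q a = q b := by
  have hmem : ∀ v : V, q' v ∈ Set.range ε' ↔ v ∈ Set.range j0 := fun v => by
    refine ⟨fun hv => ?_, ?_⟩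
    · by_contra hn
      have hv0 : v ∈ V0 := hV0.ge hn
      exact (hr'.le ⟨⟨v, hv0⟩, rfl⟩) hv
    · rintro ⟨x, rfl⟩
      exact ⟨p x, (congr($hjq' x)).symm⟩
  by_cases ha : a ∈ V0
  · have hb : b ∈ V0 := hV0.ge fun hb => by
      have h1 := (hmem b).2 hb
      rw [← hab, hmem] at h1
      exact hV0.le ha h1
    have h2 : (⟨a, ha⟩ : V0) = ⟨b, hb⟩ := (V0.ι ≫ q').isOpenEmbedding.injective hab
    rw [show a = b from congrArg (fun w : V0 => w.1) h2]
  · rw [← SetLike.mem_coe, hV0, Set.mem_compl_iff, not_not] at ha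
    have hb : b ∈ Set.range j0 := (hmem b).1 (hab ▸ (hmem a).2 ha)
    obtain ⟨x, rfl⟩ := ha
    obtain ⟨x', rfl⟩ := hb
    have hab' : ε' (p x) = ε' (p x') := (congr($hjq' x)).symm.trans (hab.trans (congr($hjq' x')))
    have hg : ∀ y, g' (ε' y) = y := fun y => congr($hε' y)
    have h3 : p x = p x' := (hg _).symm.trans ((congrArg g' hab').trans (hg _))
    exact (congr($hjq x)).trans ((congrArg ε h3).trans (congr($hjq x')).symm)

variable [IsIso q'.c] [UniversallyClosed q'] (hsurj' : Function.Surjective q')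

include hV0 hjq hε' hjq' hr' hsurj' in
theorem existsUnique_factor {h : V ⟶ Y} (hqg : q ≫ g = h) (hqg' : q' ≫ g' = h) :
    ∃! u : C' ⟶ C, u ≫ g = g' ∧ q' ≫ u = q := by
  haveI : Surjective q' := ⟨hsurj'⟩
  have hq := isQuotientMap_of_isClosedMap_surjective q' hsurj'
  obtain ⟨u, hu⟩ := (S3567.result q' hq C).2 q fun a b hab => constant_on_fibres hV0 hjq hε' hjq' hr' hab
  refine ⟨u, ⟨(S3567.result q' hq Y).1 _ _ (by rw [reassoc_of% hu, hqg, hqg']), hu⟩, fun v hv => ?_⟩
  exact (S3567.result q' hq C).1 _ _ (hv.2.trans hu.symm)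

variable {u : C' ⟶ C} (hu : q' ≫ u = q) [IsOpenImmersion (V0.ι ≫ q)] (hr : Set.range (V0.ι ≫ q) = (Set.range ε)ᶜ)
  [IsProper p] (hθ : IsIso p.c)

include hjq hjq' hu hθ in
theorem ε_comp_factor : ε' ≫ u = ε := by
  haveI := hθ
  have hs := surjective_of_isIso_c p hθ
  haveI : Surjective p := ⟨hs⟩
  refine (S3567.result p (isQuotientMap_of_isClosedMap_surjective p hs) C).1 _ _ ?_
  rw [← reassoc_of% hjq', hu, hjq]

include hr' in
/-- Over the complement of the vertex the factor is an open immersion. -/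
theorem factor_restrict {W : C'.Opens} (hW : (W : Set C') = (Set.range ε')ᶜ) :
    ∃ e : (V0 : Scheme.{u}) ≅ W, e.hom ≫ W.ι = V0.ι ≫ q' :=
  ⟨IsOpenImmersion.isoOfRangeEq (V0.ι ≫ q') W.ι (by rw [hr', Scheme.Opens.range_ι, hW]),
    IsOpenImmersion.isoOfRangeEq_hom_fac _ _ _⟩

include hr hr' hu in
theorem factor_restrict_spec {W : C'.Opens} (hW : (W : Set C') = (Set.range ε')ᶜ) :
    IsOpenImmersion (W.ι ≫ u) ∧ Set.range (W.ι ≫ u) = (Set.range ε)ᶜ := by
  obtain ⟨e, he⟩ := factor_restrict hr' hW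
  have h1 : W.ι ≫ u = e.inv ≫ V0.ι ≫ q := by
    rw [← hu, ← reassoc_of% he, Iso.inv_hom_id_assoc]
  rw [h1]
  refine ⟨inferInstance, ?_⟩
  rw [← hr, Scheme.Hom.comp_base, TopCat.coe_comp, Set.range_comp, Set.range_eq_univ.2 e.inv.surjective,
    Set.image_univ]

include hε' hε hjq hjq' hu hθ hr hr' in
theorem universallyInjective_factor [IsSeparated g'] : UniversallyInjective u := by
  haveI : IsClosedImmersion (ε' ≫ g') := by rw [hε']; infer_instance
  haveI : IsClosedImmersion ε' := IsClosedImmersion.of_comp ε' g'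
  have hεu : ε' ≫ u = ε := ε_comp_factor hjq hjq' hu hθ
  let W : C'.Opens := ⟨(Set.range ε')ᶜ, ε'.isClosedEmbedding.isClosed_range.isOpen_compl⟩
  obtain ⟨hoW, hrW⟩ := factor_restrict_spec hr' hu hr (W := W) rfl
  have hiff : ∀ z : C', u z ∈ Set.range ε ↔ z ∈ Set.range ε' := fun z => by
    refine ⟨fun hz => ?_, ?_⟩
    · by_contra hn
      exact (hrW.le ⟨⟨z, hn⟩, rfl⟩) hz
    · rintro ⟨y, rfl⟩
      exact ⟨y, (congr($hεu y)).symm⟩
  refine ((tfae_universallyInjective u).out 0 1).2 ?_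
  intro K inst a b hab
  have hpt : u (a (IsLocalRing.closedPoint K)) = u (b (IsLocalRing.closedPoint K)) :=
    congr($hab (IsLocalRing.closedPoint K))
  by_cases ha : a (IsLocalRing.closedPoint K) ∈ Set.range ε'
  · have hb : b (IsLocalRing.closedPoint K) ∈ Set.range ε' := (hiff _).1 (hpt ▸ (hiff _).2 ha)
    obtain ⟨s, rfl⟩ := exists_lift_of_mem_range ε' a ha
    obtain ⟨t, rfl⟩ := exists_lift_of_mem_range ε' b hb
    have h2 := congrArg (· ≫ g) hab
    simp only [Category.assoc, reassoc_of% hεu, hε, Category.comp_id] at h2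
    rw [h2]
  · have hb : b (IsLocalRing.closedPoint K) ∉ Set.range ε' := fun hb => ha ((hiff _).1 (hpt ▸ (hiff _).2 hb))
    obtain ⟨s, rfl⟩ := exists_lift_of_mem_range W.ι a (by rw [Scheme.Opens.range_ι]; exact ha)
    obtain ⟨t, rfl⟩ := exists_lift_of_mem_range W.ι b (by rw [Scheme.Opens.range_ι]; exact hb)
    haveI := hoW
    simp only [Category.assoc] at hab
    rw [(cancel_mono (W.ι ≫ u)).1 hab]

include hu hjq hr hθ in
theorem surjective_of_contraction : Function.Surjective u := fun z => by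
  by_cases hz : z ∈ Set.range ε
  · obtain ⟨y, rfl⟩ := hz
    obtain ⟨x, rfl⟩ := surjective_of_isIso_c p hθ y
    exact ⟨q' (j0 x), (congr($hu (j0 x))).trans (congr($hjq x))⟩
  · obtain ⟨v, rfl⟩ := hr.ge hz
    exact ⟨q' v.1, congr($hu v.1)⟩

/-- The canonical morphism to the relative spectrum of the direct image is bijective on functions. -/
theorem bijective_canonical {V Y : Scheme.{u}} (h : V ⟶ Y) [QuasiCompact h] [QuasiSeparated h]
    (q' : V ⟶ (RelSpec.QCAlg.directImage h).spec) (hq'π : q' ≫ (RelSpec.QCAlg.directImage h).π = h)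
    (hq' : AffAlg.algHom (RelSpec.QCAlg.directImage h).π h q' hq'π = (RelSpec.QCAlg.directImage h).gammaMap)
    (U : Y.Opens) :
    Function.Bijective (q'.appLE ((RelSpec.QCAlg.directImage h).π ⁻¹ᵁ U) (h ⁻¹ᵁ U)
      (RelSpecX.preimage_eq (RelSpec.QCAlg.directImage h).π h q' hq'π U).le).hom := by
  haveI := RelSpecX.isIso_gammaMap (RelSpec.QCAlg.directImage h)
  rw [← RelSpecX.algHom_app _ _ q' hq'π, hq']
  exact ConcreteCategory.bijective_of_isIso _

end Groth.Agent.Contract17
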