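import Groth.Agent.RelSpecX.Spec
import Mathlib.Algebra.Category.Ring.Constructions
import Mathlib.RingTheory.Localization.BaseChange

/-!
# Pinching a subscheme along a morphism to the base

For `h : V ⟶ Y`, `p : X ⟶ Y` and `j : X ⟶ V` over `Y`, the scheme affine over `Y` whose functions are the
pairs of a function on `V` and a function on `Y` with the same restriction to `X`.
-/

set_option autoImplicit false
set_option linter.style.haveILetI false
set_option backward.isDefEq.respectTransparency false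
set_option backward.isDefEq.respectTransparency.types false

universe u

open CategoryTheory CategoryTheory.Limits AlgebraicGeometry TopologicalSpace Opposite

noncomputable section

namespace Groth.Agent.Contract17

variable {V X Y : Scheme.{u}} (h : V ⟶ Y) (p : X ⟶ Y) (j : X ⟶ V) (hj : j ≫ h = p)

/-- The fibre product presheaf of the two direct images over `p_* O_X`. -/
def pinchPsh : TopCat.Presheaf CommRingCat.{u} Y.carrier :=
  pullback (AffAlg.algHom h p j hj) p.c

def pinchFst : pinchPsh h p j hj ⟶ AffAlg.alg h := pullback.fst _ _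

def pinchSnd : pinchPsh h p j hj ⟶ Y.presheaf := pullback.snd _ _

theorem pinch_condition :
    pinchFst h p j hj ≫ AffAlg.algHom h p j hj = pinchSnd h p j hj ≫ p.c := pullback.condition

theorem isSheaf_pinchPsh : (pinchPsh h p j hj).IsSheaf :=
  TopCat.limit_isSheaf _ fun k => by
    rcases k with _ | k
    · exact TopCat.Sheaf.pushforward_sheaf_of_sheaf _ X.sheaf.property
    · cases k
      · exact TopCat.Sheaf.pushforward_sheaf_of_sheaf _ V.sheaf.property
      · exact Y.sheaf.property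

theorem pinch_app (U : Y.Opensᵒᵖ) :
    (∀ a b, ((pinchFst h p j hj).app U).hom a = ((pinchFst h p j hj).app U).hom b →
      ((pinchSnd h p j hj).app U).hom a = ((pinchSnd h p j hj).app U).hom b → a = b) ∧
    ∀ b c, ((AffAlg.algHom h p j hj).app U).hom b = (p.c.app U).hom c →
      ∃ e, ((pinchFst h p j hj).app U).hom e = b ∧ ((pinchSnd h p j hj).app U).hom e = c := by
  have hl := isLimitPullbackConeMapOfIsLimit ((evaluation Y.Opensᵒᵖ CommRingCat.{u}).obj U)
    (pullback.condition (f := AffAlg.algHom h p j hj) (g := p.c)) (pullbackIsPullback _ _)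
  let i := hl.conePointUniqueUpToIso
    (CommRingCat.pullbackConeIsLimit ((AffAlg.algHom h p j hj).app U) (p.c.app U))
  have h1 : i.hom ≫ (CommRingCat.pullbackCone ((AffAlg.algHom h p j hj).app U) (p.c.app U)).fst =
      (pinchFst h p j hj).app U :=
    IsLimit.conePointUniqueUpToIso_hom_comp _ _ WalkingCospan.left
  have h2 : i.hom ≫ (CommRingCat.pullbackCone ((AffAlg.algHom h p j hj).app U) (p.c.app U)).snd =
      (pinchSnd h p j hj).app U :=
    IsLimit.conePointUniqueUpToIso_hom_comp _ _ WalkingCospan.right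
  refine ⟨fun a b ha hb => ?_, fun b c hbc => ?_⟩
  · rw [← h1] at ha
    rw [← h2] at hb
    exact (ConcreteCategory.bijective_of_isIso i.hom).1 (Subtype.ext (Prod.ext ha hb))
  · obtain ⟨e, he⟩ := (ConcreteCategory.bijective_of_isIso i.hom).2 ⟨(b, c), hbc⟩
    refine ⟨e, ?_, ?_⟩
    · rw [← h1]
      exact congrArg (fun z => z.1.1) he
    · rw [← h2]
      exact congrArg (fun z => z.1.2) he

/-- The structure map. -/
def pinchStr : Y.presheaf ⟶ pinchPsh h p j hj :=
  pullback.lift h.c (𝟙 _) (by rw [AffAlg.algHom_comm, Category.id_comp])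

theorem pinchStr_fst : pinchStr h p j hj ≫ pinchFst h p j hj = h.c := pullback.lift_fst _ _ _

theorem pinchStr_snd : pinchStr h p j hj ≫ pinchSnd h p j hj = 𝟙 _ := pullback.lift_snd _ _ _

theorem isQC_pinch [QuasiCompact h] [QuasiSeparated h] [QuasiCompact p] [QuasiSeparated p] :
    RelSpec.IsQC (pinchPsh h p j hj) (pinchStr h p j hj) := by
  intro U hU r
  let D := Y.basicOpen r
  let i := (homOfLE (Y.basicOpen_le r)).op
  letI := ((pinchPsh h p j hj).map i).hom.toAlgebra
  letI := ((AffAlg.alg h).map i).hom.toAlgebra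
  letI := ((AffAlg.alg p).map i).hom.toAlgebra
  letI : Algebra Γ(Y, U) Γ(Y, D) := (Y.presheaf.map i).hom.toAlgebra
  have hV : IsLocalization.Away ((h.c.app (op U)).hom r) ((AffAlg.alg h).obj (op D)) :=
    RelSpec.QCAlg.isQC_pushforward h U hU r
  have hX : IsLocalization.Away ((p.c.app (op U)).hom r) ((AffAlg.alg p).obj (op D)) :=
    RelSpec.QCAlg.isQC_pushforward p U hU r
  have hY : IsLocalization.Away r Γ(Y, D) := hU.isLocalization_basicOpen r
  obtain ⟨hinjU, hmemU⟩ := pinch_app h p j hj (op U)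
  obtain ⟨hinjD, -⟩ := pinch_app h p j hj (op D)
  set F := pinchFst h p j hj with hF
  set G := pinchSnd h p j hj with hG
  have nF : ∀ a, (F.app (op D)).hom (((pinchPsh h p j hj).map i).hom a) =
      ((AffAlg.alg h).map i).hom ((F.app (op U)).hom a) := fun a => congr($(F.naturality i).hom a)
  have nG : ∀ a, (G.app (op D)).hom (((pinchPsh h p j hj).map i).hom a) =
      (Y.presheaf.map i).hom ((G.app (op U)).hom a) := fun a => congr($(G.naturality i).hom a)
  have nA : ∀ a, ((AffAlg.algHom h p j hj).app (op D)).hom (((AffAlg.alg h).map i).hom a) =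
      ((AffAlg.alg p).map i).hom (((AffAlg.algHom h p j hj).app (op U)).hom a) := fun a =>
    congr($((AffAlg.algHom h p j hj).naturality i).hom a)
  have nP : ∀ a, (p.c.app (op D)).hom ((Y.presheaf.map i).hom a) =
      ((AffAlg.alg p).map i).hom ((p.c.app (op U)).hom a) := fun a => congr($(p.c.naturality i).hom a)
  have sF : (F.app (op U)).hom (((pinchStr h p j hj).app (op U)).hom r) = (h.c.app (op U)).hom r :=
    congr($(NatTrans.congr_app (pinchStr_fst h p j hj) (op U)).hom r)
  have sG : (G.app (op U)).hom (((pinchStr h p j hj).app (op U)).hom r) = r :=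
    congr($(NatTrans.congr_app (pinchStr_snd h p j hj) (op U)).hom r)
  have sA : ((AffAlg.algHom h p j hj).app (op U)).hom ((h.c.app (op U)).hom r) = (p.c.app (op U)).hom r :=
    congr($(NatTrans.congr_app (AffAlg.algHom_comm h p j hj) (op U)).hom r)
  have hstr : ((pinchPsh h p j hj).map i).hom (((pinchStr h p j hj).app (op U)).hom r) =
      ((pinchStr h p j hj).app (op D)).hom ((Y.presheaf.map i).hom r) :=
    (congr($((pinchStr h p j hj).naturality i).hom r)).symm
  refine (isLocalization_iff _ _).mpr ⟨fun ⟨_, n, rfl⟩ => ?_, fun z => ?_, fun {x y} hxy => ?_⟩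
  · show IsUnit (((pinchPsh h p j hj).map i).hom (((pinchStr h p j hj).app (op U)).hom r ^ n))
    rw [map_pow, hstr]
    exact ((RingedSpace.isUnit_res_basicOpen Y.toRingedSpace r).map _).pow n
  · obtain ⟨n, b, hb⟩ := IsLocalization.Away.surj ((h.c.app (op U)).hom r) ((F.app (op D)).hom z)
    obtain ⟨n', c, hc⟩ := IsLocalization.Away.surj r ((G.app (op D)).hom z)
    rw [RingHom.algebraMap_toAlgebra] at hb hc
    have hzc : ((AffAlg.algHom h p j hj).app (op D)).hom ((F.app (op D)).hom z) =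
        (p.c.app (op D)).hom ((G.app (op D)).hom z) :=
      congr($(NatTrans.congr_app (pinch_condition h p j hj) (op D)).hom z)
    obtain ⟨m, hm⟩ := IsLocalization.Away.exists_of_eq (S := (AffAlg.alg p).obj (op D))
      ((p.c.app (op U)).hom r)
      (show algebraMap _ _ ((p.c.app (op U)).hom r ^ n' * ((AffAlg.algHom h p j hj).app (op U)).hom b) =
          algebraMap _ _ ((p.c.app (op U)).hom r ^ n * (p.c.app (op U)).hom c) by
        rw [RingHom.algebraMap_toAlgebra, map_mul, map_mul, ← nA, ← nP c, ← hb, ← hc, map_mul, map_mul,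
          hzc]
        simp only [map_pow]
        rw [nA, nP, sA]
        ring)
    obtain ⟨e, he1, he2⟩ := hmemU ((h.c.app (op U)).hom r ^ m * ((h.c.app (op U)).hom r ^ n' * b))
      (r ^ m * (r ^ n * c)) (by
        rw [map_mul, map_mul, map_pow, map_pow, sA, hm, map_mul, map_mul, map_pow, map_pow])
    refine ⟨(e, ⟨_, n + n' + m, rfl⟩), hinjD _ _ ?_ ?_⟩
    · show (F.app (op D)).hom (z * ((pinchPsh h p j hj).map i).hom
          (((pinchStr h p j hj).app (op U)).hom r ^ (n + n' + m))) = (F.app (op D)).hom (((pinchPsh h p j hj).map i).hom e)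
      rw [map_mul, nF, nF, he1, map_pow, sF, map_mul, map_mul, map_pow, map_pow, map_pow, ← hb, pow_add, pow_add]
      ring
    · show (G.app (op D)).hom (z * ((pinchPsh h p j hj).map i).hom
          (((pinchStr h p j hj).app (op U)).hom r ^ (n + n' + m))) = (G.app (op D)).hom (((pinchPsh h p j hj).map i).hom e)
      rw [map_mul, nG, nG, he2, map_pow, sG, map_mul, map_mul, map_pow, map_pow, map_pow, ← hc, pow_add, pow_add]
      ring
  · obtain ⟨m, hm⟩ := IsLocalization.Away.exists_of_eq (S := (AffAlg.alg h).obj (op D))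
      ((h.c.app (op U)).hom r)
      (show ((AffAlg.alg h).map i).hom ((F.app (op U)).hom x) = ((AffAlg.alg h).map i).hom ((F.app (op U)).hom y) by
        rw [← nF, ← nF]; exact congrArg _ hxy)
    obtain ⟨m', hm'⟩ := IsLocalization.Away.exists_of_eq (S := Γ(Y, D)) r
      (show (Y.presheaf.map i).hom ((G.app (op U)).hom x) = (Y.presheaf.map i).hom ((G.app (op U)).hom y) by
        rw [← nG, ← nG]; exact congrArg _ hxy)
    refine ⟨⟨_, m + m', rfl⟩, hinjU _ _ ?_ ?_⟩
    · show (F.app (op U)).hom (((pinchStr h p j hj).app (op U)).hom r ^ (m + m') * x) =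
        (F.app (op U)).hom (((pinchStr h p j hj).app (op U)).hom r ^ (m + m') * y)
      rw [map_mul, map_mul, map_pow, sF, pow_add, mul_comm ((h.c.app (op U)).hom r ^ m), mul_assoc, hm, mul_assoc]
    · show (G.app (op U)).hom (((pinchStr h p j hj).app (op U)).hom r ^ (m + m') * x) =
        (G.app (op U)).hom (((pinchStr h p j hj).app (op U)).hom r ^ (m + m') * y)
      rw [map_mul, map_mul, map_pow, sG, pow_add, mul_assoc, hm', mul_assoc]

/-- The pinched algebra. -/
@[reducible] def pinchAlg [QuasiCompact h] [QuasiSeparated h] [QuasiCompact p] [QuasiSeparated p] : RelSpec.QCAlg Y where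
  presheaf := pinchPsh h p j hj
  isSheaf := isSheaf_pinchPsh h p j hj
  str := pinchStr h p j hj
  isQC := isQC_pinch h p j hj

include hj in
/-- The pinching: a scheme affine over `Y` with a section and a map from `V`, whose functions over the preimage of
an open of `Y` are the compatible pairs. -/
theorem exists_pinch [QuasiCompact h] [QuasiSeparated h] [QuasiCompact p] [QuasiSeparated p] :
    ∃ (C : Scheme.{u}) (g : C ⟶ Y) (ε : Y ⟶ C) (q : V ⟶ C) (hq : q ≫ g = h) (hε : ε ≫ g = 𝟙 Y),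
      IsAffineHom g ∧ j ≫ q = p ≫ ε ∧ ∀ U : Y.Opens,
        (∀ a b : Γ(C, g ⁻¹ᵁ U),
          (q.appLE (g ⁻¹ᵁ U) (h ⁻¹ᵁ U) (RelSpecX.preimage_eq g h q hq U).le).hom a =
            (q.appLE (g ⁻¹ᵁ U) (h ⁻¹ᵁ U) (RelSpecX.preimage_eq g h q hq U).le).hom b →
          (ε.appLE (g ⁻¹ᵁ U) U (RelSpecX.preimage_eq g (𝟙 Y) ε hε U).le).hom a =
            (ε.appLE (g ⁻¹ᵁ U) U (RelSpecX.preimage_eq g (𝟙 Y) ε hε U).le).hom b → a = b) ∧
        ∀ (b : Γ(V, h ⁻¹ᵁ U)) (c : Γ(Y, U)),
          (j.appLE (h ⁻¹ᵁ U) (p ⁻¹ᵁ U) (RelSpecX.preimage_eq h p j hj U).le).hom b = (p.app U).hom c →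
          ∃ a : Γ(C, g ⁻¹ᵁ U),
            (q.appLE (g ⁻¹ᵁ U) (h ⁻¹ᵁ U) (RelSpecX.preimage_eq g h q hq U).le).hom a = b ∧
            (ε.appLE (g ⁻¹ᵁ U) U (RelSpecX.preimage_eq g (𝟙 Y) ε hε U).le).hom a = c := by
  let A := pinchAlg h p j hj
  have hq0 : A.π.c ≫ (A.gammaMap ≫ pinchFst h p j hj) = h.c := by
    rw [← Category.assoc, RelSpec.QCAlg.π_c_gammaMap]
    exact pinchStr_fst h p j hj
  let σ : A.presheaf ⟶ AffAlg.alg (𝟙 Y) := pinchSnd h p j hj
  have hε0 : A.π.c ≫ (A.gammaMap ≫ σ) = (𝟙 Y : Y ⟶ Y).c := by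
    rw [← Category.assoc, RelSpec.QCAlg.π_c_gammaMap]
    exact pinchStr_snd h p j hj
  let q := RelSpecX.ofAlgHom A.π h ⟨_, hq0⟩
  let ε := RelSpecX.ofAlgHom A.π (𝟙 Y) ⟨_, hε0⟩
  have hq : q ≫ A.π = h := RelSpecX.ofAlgHom_comp _ _ _
  have hε : ε ≫ A.π = 𝟙 Y := RelSpecX.ofAlgHom_comp _ _ _
  haveI := RelSpecX.isIso_gammaMap A
  have aq : ∀ U : Y.Opens, q.appLE (A.π ⁻¹ᵁ U) (h ⁻¹ᵁ U) (RelSpecX.preimage_eq A.π h q hq U).le =
      A.gammaMap.app (op U) ≫ (pinchFst h p j hj).app (op U) := fun U => by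
    rw [← RelSpecX.algHom_app]
    exact NatTrans.congr_app (RelSpecX.algHom_ofAlgHom A.π h ⟨_, hq0⟩) (op U)
  have aε : ∀ U : Y.Opens, ε.appLE (A.π ⁻¹ᵁ U) U (RelSpecX.preimage_eq A.π (𝟙 Y) ε hε U).le =
      A.gammaMap.app (op U) ≫ (pinchSnd h p j hj).app (op U) := fun U => by
    have := RelSpecX.algHom_app A.π (𝟙 Y) ε hε U
    exact this.symm.trans (NatTrans.congr_app (RelSpecX.algHom_ofAlgHom A.π (𝟙 Y) ⟨_, hε0⟩) (op U))
  refine ⟨A.spec, A.π, ε, q, hq, hε, inferInstance, ?_, fun U => ?_⟩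
  · refine RelSpecX.algHom_injective A.π p (by rw [Category.assoc, hq, hj])
      (by rw [Category.assoc, hε, Category.comp_id]) fun U => ?_
    rw [RelSpecX.algHom_app, RelSpecX.algHom_app]
    refine ((Scheme.Hom.appLE_comp_appLE j q _ _ _ (RelSpecX.preimage_eq A.π h q hq U.1).le
        (RelSpecX.preimage_eq h p j hj U.1).le).symm.trans ?_).trans
      (Scheme.Hom.appLE_comp_appLE p ε _ _ _ (RelSpecX.preimage_eq A.π (𝟙 Y) ε hε U.1).le le_rfl)
    show _ = ε.appLE (A.π ⁻¹ᵁ U.1) U.1 (RelSpecX.preimage_eq A.π (𝟙 Y) ε hε U.1).le ≫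
      p.appLE U.1 (p ⁻¹ᵁ U.1) le_rfl
    rw [aq, aε, ← Scheme.Hom.app_eq_appLE, ← RelSpecX.algHom_app h p j hj, Category.assoc, Category.assoc]
    exact congrArg (A.gammaMap.app (op U.1) ≫ ·) (NatTrans.congr_app (pinch_condition h p j hj) (op U.1))
  · obtain ⟨hinj, hmem⟩ := pinch_app h p j hj (op U)
    have hbij := ConcreteCategory.bijective_of_isIso (A.gammaMap.app (op U))
    refine ⟨fun a b ha hb => hbij.1 (hinj _ _ ?_ ?_), fun b c hbc => ?_⟩
    · rw [aq] at ha; exact ha
    · rw [aε] at hb; exact hb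
    · rw [← RelSpecX.algHom_app h p j hj] at hbc
      obtain ⟨e, he1, he2⟩ := hmem b c hbc
      obtain ⟨a, rfl⟩ := hbij.2 e
      exact ⟨a, (congr($(aq U).hom a)).trans he1, (congr($(aε U).hom a)).trans he2⟩

end Groth.Agent.Contract17
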