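import Groth.Agent.Contract17.Zero
import Groth.Agent.Contract17.Pinch
import Mathlib.AlgebraicGeometry.Morphisms.Proper
import Mathlib.AlgebraicGeometry.Morphisms.Integral

/-!
# Ampleness gives a contraction of the zero section
-/

set_option autoImplicit false
set_option linter.style.haveILetI false
set_option backward.isDefEq.respectTransparency false
set_option backward.isDefEq.respectTransparency.types false

universe u

open CategoryTheory CategoryTheory.Limits AlgebraicGeometry TopologicalSpace Opposite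

noncomputable section

namespace Groth.Agent.Contract17

open Groth.Agent Groth.Agent.AModX Groth.Agent.SymAlgX

theorem appLE_app {X Y : Scheme.{u}} (f : X ⟶ Y) {U : Y.Opens} {W : X.Opens} (e : W ≤ f ⁻¹ᵁ U) (r : Γ(Y, U)) :
    (f.appLE U W e).hom r = (X.presheaf.map (homOfLE e).op).hom ((f.app U).hom r) := rfl

/-- The pinched map is an isomorphism over the locus of a function vanishing on the section, if its preimage is
affine. -/
theorem isIso_restrict {V X Y C : Scheme.{u}} {h : V ⟶ Y} [QuasiCompact h] [QuasiSeparated h] {p : X ⟶ Y}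
    {j : X ⟶ V} (hj : j ≫ h = p) {g : C ⟶ Y} [IsAffineHom g] {q : V ⟶ C} (hq : q ≫ g = h)
    {ε : Y ⟶ C} (hε : ε ≫ g = 𝟙 Y) {U : Y.Opens} (hU : IsAffineOpen U)
    (hinj : ∀ a b : Γ(C, g ⁻¹ᵁ U),
      (q.appLE (g ⁻¹ᵁ U) (h ⁻¹ᵁ U) (RelSpecX.preimage_eq g h q hq U).le).hom a =
        (q.appLE (g ⁻¹ᵁ U) (h ⁻¹ᵁ U) (RelSpecX.preimage_eq g h q hq U).le).hom b →
      (ε.appLE (g ⁻¹ᵁ U) U (RelSpecX.preimage_eq g (𝟙 Y) ε hε U).le).hom a =
        (ε.appLE (g ⁻¹ᵁ U) U (RelSpecX.preimage_eq g (𝟙 Y) ε hε U).le).hom b → a = b)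
    (hsurj : ∀ (b : Γ(V, h ⁻¹ᵁ U)) (c : Γ(Y, U)),
      (j.appLE (h ⁻¹ᵁ U) (p ⁻¹ᵁ U) (RelSpecX.preimage_eq h p j hj U).le).hom b = (p.app U).hom c →
      ∃ a : Γ(C, g ⁻¹ᵁ U), (q.appLE (g ⁻¹ᵁ U) (h ⁻¹ᵁ U) (RelSpecX.preimage_eq g h q hq U).le).hom a = b ∧
        (ε.appLE (g ⁻¹ᵁ U) U (RelSpecX.preimage_eq g (𝟙 Y) ε hε U).le).hom a = c)
    {f : Γ(C, g ⁻¹ᵁ U)} {b : Γ(V, h ⁻¹ᵁ U)}
    (hfb : (q.appLE (g ⁻¹ᵁ U) (h ⁻¹ᵁ U) (RelSpecX.preimage_eq g h q hq U).le).hom f = b)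
    (hf0 : (ε.appLE (g ⁻¹ᵁ U) U (RelSpecX.preimage_eq g (𝟙 Y) ε hε U).le).hom f = 0)
    (hjb : (j.appLE (h ⁻¹ᵁ U) (p ⁻¹ᵁ U) (RelSpecX.preimage_eq h p j hj U).le).hom b = 0)
    (hD : IsAffineOpen (V.basicOpen b)) (hqD : q ⁻¹ᵁ C.basicOpen f = V.basicOpen b) :
    IsIso (q ∣_ C.basicOpen f) := by
  have hgU := hU.preimage g
  letI : Algebra Γ(C, g ⁻¹ᵁ U) Γ(C, C.basicOpen f) := (C.presheaf.map (homOfLE (C.basicOpen_le f)).op).hom.toAlgebra
  haveI : IsLocalization.Away f Γ(C, C.basicOpen f) := hgU.isLocalization_basicOpen f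
  letI : Algebra Γ(V, h ⁻¹ᵁ U) Γ(V, V.basicOpen b) := (V.presheaf.map (homOfLE (V.basicOpen_le b)).op).hom.toAlgebra
  haveI : IsLocalization.Away b Γ(V, V.basicOpen b) :=
    isLocalization_basicOpen_of_qcqs (h.isCompact_preimage hU.isCompact)
      (h.isQuasiSeparated_preimage hU.isQuasiSeparated) b
  set aq := (q.appLE (g ⁻¹ᵁ U) (h ⁻¹ᵁ U) (RelSpecX.preimage_eq g h q hq U).le).hom
  set aε := (ε.appLE (g ⁻¹ᵁ U) U (RelSpecX.preimage_eq g (𝟙 Y) ε hε U).le).hom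
  set aj := (j.appLE (h ⁻¹ᵁ U) (p ⁻¹ᵁ U) (RelSpecX.preimage_eq h p j hj U).le).hom
  let ρ := (q.appLE (C.basicOpen f) (V.basicOpen b) hqD.ge).hom
  have hρ : ∀ x, ρ (algebraMap Γ(C, g ⁻¹ᵁ U) Γ(C, C.basicOpen f) x) =
      algebraMap Γ(V, h ⁻¹ᵁ U) Γ(V, V.basicOpen b) (aq x) := fun x => by
    show (C.presheaf.map _ ≫ q.appLE (C.basicOpen f) (V.basicOpen b) hqD.ge).hom x =
      (q.appLE (g ⁻¹ᵁ U) (h ⁻¹ᵁ U) _ ≫ V.presheaf.map _).hom x
    rw [Scheme.Hom.map_appLE, Scheme.Hom.appLE_map]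
  have hbij : Function.Bijective ρ := by
    refine ⟨(injective_iff_map_eq_zero ρ).2 fun z hz => ?_, fun z => ?_⟩
    · obtain ⟨n, x, hx⟩ := IsLocalization.Away.surj f z
      have h1 := congrArg ρ hx
      rw [map_mul, map_pow, hz, zero_mul, hρ] at h1
      obtain ⟨k, hk⟩ := IsLocalization.Away.exists_of_eq (S := Γ(V, V.basicOpen b)) b
        (show algebraMap _ _ (aq x) = algebraMap _ _ (0 : Γ(V, h ⁻¹ᵁ U)) by rw [← h1, map_zero])
      rw [mul_zero] at hk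
      have h2 : f ^ (k + 1) * x = 0 := hinj _ _
        (by rw [map_mul, map_pow, hfb, map_zero, pow_succ', mul_assoc, hk, mul_zero])
        (by rw [map_mul, map_pow, hf0, map_zero, zero_pow (by omega), zero_mul])
      have hu : IsUnit (algebraMap Γ(C, g ⁻¹ᵁ U) Γ(C, C.basicOpen f) f) := IsLocalization.Away.algebraMap_isUnit f
      have h3 : algebraMap Γ(C, g ⁻¹ᵁ U) Γ(C, C.basicOpen f) (f ^ (k + 1) * x) = 0 := by rw [h2, map_zero]
      rw [map_mul, map_pow, ← hx] at h3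
      rw [(hu.pow (k + 1)).mul_right_eq_zero] at h3
      exact (hu.pow n).mul_left_eq_zero.1 h3
    · obtain ⟨n, β, hβ⟩ := IsLocalization.Away.surj b z
      obtain ⟨x, hx1, hx2⟩ := hsurj (b * β) 0 (by
        rw [map_mul, show aj b = 0 from hjb, zero_mul, map_zero])
      have hu : IsUnit (algebraMap Γ(C, g ⁻¹ᵁ U) Γ(C, C.basicOpen f) f) := IsLocalization.Away.algebraMap_isUnit f
      obtain ⟨v, hv⟩ := hu.pow (n + 1)
      refine ⟨algebraMap _ _ x * ↑v⁻¹, ?_⟩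
      have hb' : IsUnit (algebraMap Γ(V, h ⁻¹ᵁ U) Γ(V, V.basicOpen b) b ^ (n + 1)) :=
        (IsLocalization.Away.algebraMap_isUnit b).pow _
      apply hb'.mul_left_injective
      show ρ (algebraMap _ _ x * ↑v⁻¹) * algebraMap _ _ b ^ (n + 1) = z * algebraMap _ _ b ^ (n + 1)
      rw [show algebraMap Γ(V, h ⁻¹ᵁ U) Γ(V, V.basicOpen b) b ^ (n + 1) = ρ ↑v by
          rw [hv, map_pow, hρ, hfb],
        ← map_mul, mul_assoc, v.inv_mul, mul_one, hρ, hx1, hv, map_pow, hρ, hfb, map_mul, ← hβ, pow_succ]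
      ring
  haveI : IsAffine (C.basicOpen f).toScheme := hgU.basicOpen f
  haveI : IsAffine (q ⁻¹ᵁ C.basicOpen f).toScheme := by rw [hqD]; exact hD
  have hiso : IsIso (q.app (C.basicOpen f)) := by
    rw [ConcreteCategory.isIso_iff_bijective]
    have h1 : q.app (C.basicOpen f) = q.appLE (C.basicOpen f) (V.basicOpen b) hqD.ge ≫
        V.presheaf.map (eqToHom hqD).op := by
      rw [Scheme.Hom.appLE_map, Scheme.Hom.app_eq_appLE]
    rw [h1]
    exact (ConcreteCategory.bijective_of_isIso (V.presheaf.map (eqToHom hqD).op)).comp hbij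
  have e : ∀ {A B : C.Opens}, A = B → IsIso (q.app A) → IsIso (q.app B) := fun e hA => e ▸ hA
  haveI := e (Scheme.Opens.ι_image_top (C.basicOpen f)).symm hiso
  haveI : IsIso ((q ∣_ C.basicOpen f).appTop) := by
    rw [Scheme.Hom.appTop, morphismRestrict_app]
    infer_instance
  have h2 : IsIso (Spec.map (q ∣_ C.basicOpen f).appTop) := inferInstance
  exact ((MorphismProperty.isomorphisms Scheme).arrow_mk_iso_iff (arrowIsoSpecΓOfIsAffine _)).2 h2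

section

variable {X Y : Scheme.{u}} {p : X ⟶ Y} {L : X.Modules} (hL : PicF.IsInvertible L) (hLq : Coh.IsQCoh L)
  {𝒜 : RelProj.QCGrAlg X} {jL : L ⟶ 𝒜.toModule} (hA : RelProj.IsGrSymAlg L 𝒜 jL)
  {aug : 𝒜.toQCAlg ⟶ RelSpec.QCAlg.unit X} (haug : RelCone.IsAugmentation 𝒜 aug)
  {j0 : X ⟶ 𝒜.toQCAlg.spec} (hj0 : RelCone.IsVertex 𝒜 aug j0)
  {V0 : 𝒜.toQCAlg.spec.Opens} (hV0 : (V0 : Set 𝒜.toQCAlg.spec) = (Set.range j0)ᶜ)

include hLq hA haug hj0 hV0 in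
theorem isAffineOpen_inf_V0 {W : X.Opens} (hW : IsAffineOpen W) {s : Γ(L, W)} (hs : InvX.IsFrame s) :
    IsAffineOpen (𝒜.toQCAlg.π ⁻¹ᵁ W ⊓ V0) := by
  haveI := RelSpecX.isIso_gammaMap 𝒜.toQCAlg
  obtain ⟨b, hb⟩ := (ConcreteCategory.bijective_of_isIso (𝒜.toQCAlg.gammaMap.app (op W))).2
    (jv 𝒜.toQCAlg jL W s)
  convert (hW.preimage 𝒜.toQCAlg.π).basicOpen b using 1
  refine Opens.ext (Set.ext fun v => ?_)
  by_cases hv : v ∈ 𝒜.toQCAlg.π ⁻¹ᵁ W
  swap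
  · exact ⟨fun h => absurd h.1 hv, fun h => absurd (𝒜.toQCAlg.spec.basicOpen_le b h) hv⟩
  obtain ⟨z, rfl⟩ := (𝒜.toQCAlg.π_preimage W hW).le hv
  refine ⟨fun h => ?_, fun h => ⟨hv, ?_⟩⟩
  · refine ((Set.ext_iff.1 (preimage_basicOpen_ι hW le_rfl b)) z).2 ?_
    show QRel17.rs 𝒜 le_rfl _ ∉ z.asIdeal
    rw [hb, SymAlgX.rB_self]
    exact fun ht => (hV0.le h.2) ((mem_range_iff hLq hA haug hj0 hW hs z).2 ht)
  · have h1 : QRel17.rs 𝒜 (le_refl W) _ ∉ z.asIdeal := ((Set.ext_iff.1 (preimage_basicOpen_ι hW le_rfl b)) z).1 h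
    rw [hb, SymAlgX.rB_self] at h1
    exact hV0.ge fun hr => h1 ((mem_range_iff hLq hA haug hj0 hW hs z).1 hr)

include hL hLq hA haug hj0 hV0 in
theorem isAffineHom_V0_π : IsAffineHom (V0.ι ≫ 𝒜.toQCAlg.π) := by
  refine isAffineHom_of_forall_exists_isAffineOpen _ fun x => ?_
  obtain ⟨W, hW, hxW, -, s, hs⟩ := QRel17.exists_affine_frame hL (show x ∈ (⊤ : X.Opens) from trivial)
  refine ⟨W, hxW, hW, ?_⟩
  have h1 := isAffineOpen_inf_V0 hLq hA haug hj0 hV0 hW hs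
  have h2 : V0.ι ''ᵁ ((V0.ι ≫ 𝒜.toQCAlg.π) ⁻¹ᵁ W) = 𝒜.toQCAlg.π ⁻¹ᵁ W ⊓ V0 := by
    rw [Scheme.Hom.comp_preimage, Scheme.Hom.image_preimage_eq_opensRange_inf, Scheme.Opens.opensRange_ι, inf_comm]
  exact (V0.ι.isAffineOpen_iff_of_isOpenImmersion).1 (h2 ▸ h1)

include hL hLq hA in
theorem locallyOfFiniteType_π : LocallyOfFiniteType 𝒜.toQCAlg.π := by
  choose W hW hxW _ s hs using fun x : X => QRel17.exists_affine_frame hL (show x ∈ (⊤ : X.Opens) from trivial)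
  refine IsZariskiLocalAtSource.of_openCover (P := @LocallyOfFiniteType)
    (𝒜.toQCAlg.spec.openCoverOfIsOpenCover (fun x => 𝒜.toQCAlg.π ⁻¹ᵁ W x)
      (IsOpenCover.comap (v := W) (eq_top_iff.mpr fun x _ => Opens.mem_iSup.mpr ⟨x, hxW x⟩)
        𝒜.toQCAlg.π.base.1)) fun x => ?_
  show LocallyOfFiniteType ((𝒜.toQCAlg.π ⁻¹ᵁ W x).ι ≫ 𝒜.toQCAlg.π)
  have hr : Set.range (𝒜.toQCAlg.π ⁻¹ᵁ W x).ι = Set.range (𝒜.toQCAlg.ι (W x) (hW x)) := by
    rw [Scheme.Opens.range_ι, 𝒜.toQCAlg.π_preimage (W x) (hW x)]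
    rfl
  rw [← IsOpenImmersion.isoOfRangeEq_hom_fac _ _ hr, Category.assoc, 𝒜.toQCAlg.ι_π]
  haveI : LocallyOfFiniteType (Spec.map (𝒜.toQCAlg.str.app (op (W x)))) := by
    rw [HasRingHomProperty.Spec_iff (P := @LocallyOfFiniteType)]
    letI := (𝒜.str.app (op (W x))).hom.toAlgebra
    show RingHom.FiniteType (algebraMap Γ(X, W x) (𝒜.presheaf.obj (op (W x))))
    rw [RingHom.finiteType_algebraMap]
    exact Algebra.FiniteType.of_surjective (Polynomial.aeval (R := Γ(X, W x)) (jv 𝒜.toQCAlg jL (W x) (s x)))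
      (S12143.evT_bijective hLq hA.1 (hW x) (s x) (QRel17.bijective_of_isFrame (hs x))).2
  infer_instance

include hA haug hj0 in
theorem appLE_vertex_eq_zero {m : ℕ} (hm : 0 < m) {O : X.Opens} {y : 𝒜.presheaf.obj (op O)}
    (hy : QRel17.LocDeg 𝒜 m y) (b : Γ(𝒜.toQCAlg.spec, 𝒜.toQCAlg.π ⁻¹ᵁ O))
    (hb : (𝒜.toQCAlg.gammaMap.app (op O)).hom b = y) (e : O ≤ j0 ⁻¹ᵁ (𝒜.toQCAlg.π ⁻¹ᵁ O)) :
    (j0.appLE (𝒜.toQCAlg.π ⁻¹ᵁ O) O e).hom b = 0 := by
  obtain ⟨d, rfl⟩ := Nat.exists_eq_add_of_le' hm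
  refine TopCat.Sheaf.eq_of_locally_eq' X.sheaf (fun W : {W : X.Opens // IsAffineOpen W ∧ W ≤ O} => W.1) O
    (fun W => homOfLE W.2.2) (fun x hx => ?_) _ _ fun W => ?_
  · obtain ⟨W, hW, hxW, hWO⟩ := exists_isAffineOpen_mem_and_subset (X := X) (x := x) (U := O) hx
    exact Opens.mem_iSup.2 ⟨⟨W, hW, hWO⟩, hxW⟩
  · obtain ⟨W, hW, hWO⟩ := W
    rw [map_zero]
    have eW : W ≤ j0 ⁻¹ᵁ (𝒜.toQCAlg.π ⁻¹ᵁ W) := by
      rw [← Scheme.Hom.comp_preimage, hj0.comp_π]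
      exact le_rfl
    show (j0.appLE (𝒜.toQCAlg.π ⁻¹ᵁ O) O e ≫ X.presheaf.map (homOfLE hWO).op).hom b = 0
    rw [Scheme.Hom.appLE_map, ← Scheme.Hom.map_appLE j0 eW (homOfLE (𝒜.toQCAlg.π.preimage_mono hWO)).op]
    show (j0.appLE (𝒜.toQCAlg.π ⁻¹ᵁ W) W eW).hom _ = 0
    rw [appLE_vertex hj0 hW]
    have h1 := congr($(RelSpecX.map_gammaAff 𝒜.toQCAlg hW hWO).hom b)
    simp only [CommRingCat.hom_comp, RingHom.comp_apply] at h1
    refine (congrArg (augR aug W) (h1.trans ?_)).trans (haug W hW d _ (hy W hW hWO))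
    rw [hb]

variable (hamp : RelAmple.IsRelAmple p L)

include hL hLq hA haug hj0 hV0 hamp in
/-- Any pinching of the zero section by an ample module is a contraction. -/
theorem pinch_isContraction [IsSeparated p] [QuasiCompact p] {C : Scheme.{u}} {g : C ⟶ Y} [IsAffineHom g]
    {ε : Y ⟶ C} (hε : ε ≫ g = 𝟙 Y) {q : 𝒜.toQCAlg.spec ⟶ C} (hq : q ≫ g = 𝒜.toQCAlg.π ≫ p)
    (hjq : j0 ≫ q = p ≫ ε) (hpairs : ∀ U : Y.Opens,
      (∀ a b : Γ(C, g ⁻¹ᵁ U),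
        (q.appLE (g ⁻¹ᵁ U) ((𝒜.toQCAlg.π ≫ p) ⁻¹ᵁ U)
            (RelSpecX.preimage_eq g (𝒜.toQCAlg.π ≫ p) q hq U).le).hom a =
          (q.appLE (g ⁻¹ᵁ U) ((𝒜.toQCAlg.π ≫ p) ⁻¹ᵁ U)
            (RelSpecX.preimage_eq g (𝒜.toQCAlg.π ≫ p) q hq U).le).hom b →
        (ε.appLE (g ⁻¹ᵁ U) U (RelSpecX.preimage_eq g (𝟙 Y) ε hε U).le).hom a =
          (ε.appLE (g ⁻¹ᵁ U) U (RelSpecX.preimage_eq g (𝟙 Y) ε hε U).le).hom b → a = b) ∧
      ∀ (b : Γ(𝒜.toQCAlg.spec, (𝒜.toQCAlg.π ≫ p) ⁻¹ᵁ U)) (c : Γ(Y, U)),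
        (j0.appLE ((𝒜.toQCAlg.π ≫ p) ⁻¹ᵁ U) (p ⁻¹ᵁ U) (RelSpecX.preimage_eq (𝒜.toQCAlg.π ≫ p) p j0
            (by rw [← Category.assoc, hj0.comp_π, Category.id_comp]) U).le).hom b = (p.app U).hom c →
        ∃ a : Γ(C, g ⁻¹ᵁ U),
          (q.appLE (g ⁻¹ᵁ U) ((𝒜.toQCAlg.π ≫ p) ⁻¹ᵁ U)
            (RelSpecX.preimage_eq g (𝒜.toQCAlg.π ≫ p) q hq U).le).hom a = b ∧
          (ε.appLE (g ⁻¹ᵁ U) U (RelSpecX.preimage_eq g (𝟙 Y) ε hε U).le).hom a = c) :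
    IsOpenImmersion (V0.ι ≫ q) ∧ QuasiCompact (V0.ι ≫ q) ∧
      Set.range (V0.ι ≫ q) ∩ Set.range ε = ∅ ∧
        (IsProper p → IsProper q ∧ Set.range (V0.ι ≫ q) = (Set.range ε)ᶜ) := by
  classical
  let h := 𝒜.toQCAlg.π ≫ p
  have hj : j0 ≫ h = p := by rw [← Category.assoc, hj0.comp_π, Category.id_comp]
  haveI := RelSpecX.isIso_gammaMap 𝒜.toQCAlg
  -- functions attached to sections of powers
  have step : ∀ (U : Y.Opens) (hU : IsAffineOpen U) (m : ℕ) (hm : 0 < m)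
      (a : Γ(CohB1.tensorPow L m, p ⁻¹ᵁ U)) (hlocus : IsAffineOpen (AmpleX.locus a)),
      ∃ D : C.Opens, q ⁻¹ᵁ D = 𝒜.toQCAlg.π ⁻¹ᵁ AmpleX.locus a ⊓ V0 ∧ ε ⁻¹ᵁ D = ⊥ ∧ IsIso (q ∣_ D) ∧
        ∀ (W : X.Opens) (hW : IsAffineOpen W) (hWU : W ≤ p ⁻¹ᵁ U), W ≤ AmpleX.locus a →
          ∀ (s : Γ(L, W)), InvX.IsFrame s → ∃ (f : Γ(C, g ⁻¹ᵁ U)) (c : Γ(X, W)), IsUnit c ∧
            (𝒜.toQCAlg.gammaAff W hW).hom ((q.appLE (g ⁻¹ᵁ U) (𝒜.toQCAlg.π ⁻¹ᵁ W)
              ((𝒜.toQCAlg.π.preimage_mono hWU).trans (RelSpecX.preimage_eq g h q hq U).le)).hom f) =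
              (𝒜.str.app (op W)).hom c * jv 𝒜.toQCAlg jL W s ^ m := by
    intro U hU m hm a hlocus
    obtain ⟨y, hy, hcoord⟩ := QRel17.exists_alg_of_sect hL hLq hA a
    obtain ⟨b, hb⟩ := (ConcreteCategory.bijective_of_isIso (𝒜.toQCAlg.gammaMap.app (op (p ⁻¹ᵁ U)))).2 y
    have hjb : (j0.appLE (h ⁻¹ᵁ U) (p ⁻¹ᵁ U) (RelSpecX.preimage_eq h p j0 hj U).le).hom b = 0 :=
      appLE_vertex_eq_zero hA haug hj0 hm hy b hb _
    obtain ⟨f, hf1, hf2⟩ := (hpairs U).2 b 0 (by rw [map_zero]; exact hjb)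
    -- the coordinates of `y`
    have hc : ∀ (W : X.Opens) (hW : IsAffineOpen W) (hWU : W ≤ p ⁻¹ᵁ U) (s : Γ(L, W)), InvX.IsFrame s →
        ∃ c : Γ(X, W), QRel17.rs 𝒜 hWU y = (𝒜.str.app (op W)).hom c * jv 𝒜.toQCAlg jL W s ^ m ∧
          AmpleX.locus a ⊓ W = X.basicOpen c := fun W hW hWU s hs => by
      obtain ⟨c, hc⟩ := S12143.mem_deg_eq hLq hA hW s (QRel17.bijective_of_isFrame hs) (hy W hW hWU)
      exact ⟨c, hc, AmpleX.locus_inf a hWU (FrobSplit29.isFrame_powT hs m) (hcoord W hW hWU s hs c hc)⟩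
    have hDb : 𝒜.toQCAlg.spec.basicOpen b = 𝒜.toQCAlg.π ⁻¹ᵁ AmpleX.locus a ⊓ V0 := by
      refine Opens.ext (Set.ext fun v => ?_)
      by_cases hv : 𝒜.toQCAlg.π v ∈ p ⁻¹ᵁ U
      swap
      · exact ⟨fun h' => absurd (𝒜.toQCAlg.spec.basicOpen_le b h') hv, fun h' => absurd (AmpleX.locus_le a h'.1) hv⟩
      obtain ⟨W, hW, hxW, hWU, s, hs⟩ := QRel17.exists_affine_frame hL hv
      obtain ⟨z, rfl⟩ := (𝒜.toQCAlg.π_preimage W hW).le (show v ∈ 𝒜.toQCAlg.π ⁻¹ᵁ W from hxW)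
      obtain ⟨c, hyc, hcl⟩ := hc W hW hWU s hs
      have h1 : 𝒜.toQCAlg.ι W hW z ∈ 𝒜.toQCAlg.spec.basicOpen b ↔
          (𝒜.str.app (op W)).hom c ∉ z.asIdeal ∧ jv 𝒜.toQCAlg jL W s ∉ z.asIdeal := by
        refine ((Set.ext_iff.1 (preimage_basicOpen_ι hW hWU b)) z).trans ?_
        show QRel17.rs 𝒜 hWU _ ∉ z.asIdeal ↔ _
        rw [hb, hyc, z.isPrime.mul_mem_iff_mem_or_mem, z.isPrime.pow_mem_iff_mem m hm, not_or]
      have h2 : 𝒜.toQCAlg.π (𝒜.toQCAlg.ι W hW z) ∈ AmpleX.locus a ↔ (𝒜.str.app (op W)).hom c ∉ z.asIdeal := by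
        have h3 : 𝒜.toQCAlg.π (𝒜.toQCAlg.ι W hW z) = hW.fromSpec (Spec.map (𝒜.str.app (op W)) z) := by
          exact congr($(𝒜.toQCAlg.ι_π W hW) z)
        constructor
        · intro hl
          have h4 : Spec.map (𝒜.str.app (op W)) z ∈ hW.fromSpec ⁻¹ᵁ X.basicOpen c := by
            show hW.fromSpec _ ∈ X.basicOpen c
            rw [← h3, ← hcl]
            exact ⟨hl, hxW⟩
          rw [hW.fromSpec_preimage_basicOpen] at h4
          exact h4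
        · intro hn
          have h4 : Spec.map (𝒜.str.app (op W)) z ∈ hW.fromSpec ⁻¹ᵁ X.basicOpen c := by
            rw [hW.fromSpec_preimage_basicOpen]
            exact hn
          change hW.fromSpec _ ∈ X.basicOpen c at h4
          rw [← h3, ← hcl] at h4
          exact h4.1
      show _ ↔ _ ∈ 𝒜.toQCAlg.π ⁻¹ᵁ AmpleX.locus a ⊓ V0
      rw [Opens.mem_inf]
      refine h1.trans (and_congr h2.symm ?_)
      exact (not_congr (mem_range_iff hLq hA haug hj0 hW hs z).symm).trans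
        ((Set.ext_iff.1 hV0 _).symm : 𝒜.toQCAlg.ι W hW z ∈ (Set.range j0)ᶜ ↔ _)
    have haffD : IsAffineOpen (𝒜.toQCAlg.spec.basicOpen b) := by
      have h1 := (hlocus.preimage 𝒜.toQCAlg.π).basicOpen
        (X := 𝒜.toQCAlg.spec) ((𝒜.toQCAlg.spec.presheaf.map
          (homOfLE (show 𝒜.toQCAlg.π ⁻¹ᵁ AmpleX.locus a ≤ h ⁻¹ᵁ U from
            𝒜.toQCAlg.π.preimage_mono (AmpleX.locus_le a))).op).hom b)
      rw [Scheme.basicOpen_res, inf_eq_right.2 (hDb.le.trans inf_le_left)] at h1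
      exact h1
    have hqf : q ⁻¹ᵁ C.basicOpen f = 𝒜.toQCAlg.spec.basicOpen b := by
      have h1 := Scheme.basicOpen_appLE q (h ⁻¹ᵁ U) _ (RelSpecX.preimage_eq g h q hq U).le f
      rw [hf1] at h1
      rw [h1, inf_eq_right.2 ((q.preimage_mono (C.basicOpen_le f)).trans (RelSpecX.preimage_eq g h q hq U).ge)]
    refine ⟨C.basicOpen f, hqf.trans hDb, ?_, isIso_restrict hj hq hε hU (hpairs U).1 (hpairs U).2 hf1 hf2 hjb
      haffD hqf, fun W hW hWU hWl s hs => ?_⟩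
    · have h1 := Scheme.basicOpen_appLE ε U _ (RelSpecX.preimage_eq g (𝟙 Y) ε hε U).le f
      rw [hf2, Scheme.basicOpen_zero] at h1
      exact eq_bot_iff.2 fun y hy => h1.ge
        ⟨(RelSpecX.preimage_eq g (𝟙 Y) ε hε U).ge (ε.preimage_mono (C.basicOpen_le f) hy), hy⟩
    · obtain ⟨c, hyc, hcl⟩ := hc W hW hWU s hs
      refine ⟨f, c, ?_, ?_⟩
      · have h1 : W ≤ X.basicOpen c := by rw [← hcl]; exact le_inf hWl le_rfl
        have h2 := (X.toRingedSpace.isUnit_res_basicOpen c).map (resR h1)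
        convert h2 using 1
        exact ((AModX.resR_resR (X.basicOpen_le c) h1 c).trans (AModX.resR_self c)).symm
      · rw [← hyc]
        have h1 := congr($(RelSpecX.map_gammaAff 𝒜.toQCAlg hW hWU).hom b)
        simp only [CommRingCat.hom_comp, RingHom.comp_apply] at h1
        rw [hb] at h1
        refine Eq.trans ?_ h1
        refine congrArg (𝒜.toQCAlg.gammaAff W hW).hom ?_
        rw [← hf1]
        exact (congr($(Scheme.Hom.appLE_map q (RelSpecX.preimage_eq g h q hq U).le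
          (homOfLE (𝒜.toQCAlg.π.preimage_mono hWU)).op).hom f)).symm
  let ι := Σ (U : Y.affineOpens) (m : {m : ℕ // 0 < m}),
    {a : Γ(CohB1.tensorPow L m.1, p ⁻¹ᵁ U.1) // IsAffineOpen (AmpleX.locus a)}
  choose D hqD hεD hisoD hcoordD using fun i : ι => step i.1.1 i.1.2 i.2.1.1 i.2.1.2 i.2.2.1 i.2.2.2
  have hcov : ∀ x : X, ∃ i : ι, x ∈ AmpleX.locus i.2.2.1 := fun x => by
    obtain ⟨U, hU, hxU, -⟩ := exists_isAffineOpen_mem_and_subset (X := Y) (x := p x) (U := ⊤) trivial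
    obtain ⟨m, hm, a, hxa, -, ha⟩ := AmpleX.exists_sections_of_isRelAmple hamp hU hxU (U := ⊤) trivial
    exact ⟨⟨⟨U, hU⟩, ⟨m, hm⟩, a, ha⟩, hxa⟩
  let C₀ : C.Opens := ⨆ i, D i
  have hqC₀ : q ⁻¹ᵁ C₀ = V0 := by
    refine le_antisymm (fun v hv => ?_) fun v hv => ?_
    · obtain ⟨i, hi⟩ := Opens.mem_iSup.1 (show q v ∈ C₀ from hv)
      exact ((hqD i).le hi).2
    · obtain ⟨i, hi⟩ := hcov (𝒜.toQCAlg.π v)
      exact Opens.mem_iSup.2 ⟨i, (hqD i).ge ⟨hi, hv⟩⟩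
  haveI hisoC₀ : IsIso (q ∣_ C₀) := by
    refine IsZariskiLocalAtTarget.of_iSup_eq_top (P := MorphismProperty.isomorphisms Scheme.{u})
      (fun i => C₀.ι ⁻¹ᵁ D i) ?_ fun i => ?_
    · refine eq_top_iff.2 fun z _ => ?_
      obtain ⟨i, hi⟩ := Opens.mem_iSup.1 (show C₀.ι z ∈ C₀ from z.2)
      exact Opens.mem_iSup.2 ⟨i, hi⟩
    · have h1 : C₀.ι ''ᵁ (C₀.ι ⁻¹ᵁ D i) = D i := by
        rw [Scheme.Hom.image_preimage_eq_opensRange_inf, Scheme.Opens.opensRange_ι]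
        exact inf_eq_right.2 (le_iSup D i)
      refine ((MorphismProperty.isomorphisms Scheme.{u}).arrow_mk_iso_iff
        (morphismRestrictRestrict q C₀ (C₀.ι ⁻¹ᵁ D i))).2 ?_
      rw [h1]
      exact hisoD i
  have hoi : IsOpenImmersion (V0.ι ≫ q) := by
    rw [← hqC₀, ← morphismRestrict_ι]
    infer_instance
  have hdisj : Set.range (V0.ι ≫ q) ∩ Set.range ε = ∅ := by
    refine Set.eq_empty_iff_forall_notMem.2 ?_
    rintro _ ⟨⟨v, rfl⟩, y, hy⟩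
    obtain ⟨i, hi⟩ := hcov (𝒜.toQCAlg.π v.1)
    have h1 : q v.1 ∈ D i := (hqD i).ge ⟨hi, v.2⟩
    have h2 : y ∈ ε ⁻¹ᵁ D i := by
      show ε y ∈ D i
      rw [hy]
      exact h1
    rw [hεD i] at h2
    exact h2
  haveI : IsAffineHom (V0.ι ≫ 𝒜.toQCAlg.π) := isAffineHom_V0_π hL hLq hA haug hj0 hV0
  haveI : QuasiCompact ((V0.ι ≫ q) ≫ g) := by
    rw [Category.assoc, hq, ← Category.assoc]
    infer_instance
  refine ⟨hoi, QuasiCompact.of_comp _ g, hdisj, fun hp => ?_⟩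
  haveI := hp
  have hproper : IsProper q := by
    haveI : LocallyOfFiniteType 𝒜.toQCAlg.π := locallyOfFiniteType_π hL hLq hA
    haveI : LocallyOfFiniteType (q ≫ g) := by rw [hq]; infer_instance
    haveI : LocallyOfFiniteType q := locallyOfFiniteType_of_comp q g
    haveI : IsSeparated (q ≫ g) := by rw [hq]; infer_instance
    haveI : IsSeparated q := IsSeparated.of_comp q g
    let σ := pullback.lift 𝒜.toQCAlg.π q hq.symm
    choose i hi using hcov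
    choose W hW hxW hWl s hs using fun x => QRel17.exists_affine_frame hL (hi x)
    haveI : IsAffineHom (pullback.fst p g) := MorphismProperty.pullback_fst p g inferInstance
    haveI : IsIntegralHom σ := by
      refine (HasAffineProperty.iff_of_iSup_eq_top (P := @IsIntegralHom)
        (fun x : X => (⟨pullback.fst p g ⁻¹ᵁ W x, (hW x).preimage _⟩ : (pullback p g).affineOpens))
        (eq_top_iff.2 fun z _ => Opens.mem_iSup.2 ⟨pullback.fst p g z, hxW _⟩)).2 fun x => ?_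
      have hσ : σ ⁻¹ᵁ (pullback.fst p g ⁻¹ᵁ W x) = 𝒜.toQCAlg.π ⁻¹ᵁ W x := by
        rw [← Scheme.Hom.comp_preimage, pullback.lift_fst]
      refine ⟨hσ.symm ▸ (hW x).preimage 𝒜.toQCAlg.π, ?_⟩
      have key : (σ.appLE (pullback.fst p g ⁻¹ᵁ W x) (𝒜.toQCAlg.π ⁻¹ᵁ W x) hσ.ge).hom.IsIntegral := by
        set φ := (σ.appLE (pullback.fst p g ⁻¹ᵁ W x) (𝒜.toQCAlg.π ⁻¹ᵁ W x) hσ.ge).hom
        have hbij := ConcreteCategory.bijective_of_isIso (𝒜.toQCAlg.gammaMap.app (op (W x)))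
        rw [𝒜.toQCAlg.gammaMap_app (W x) (hW x)] at hbij
        set γ := RingEquiv.ofBijective (𝒜.toQCAlg.gammaAff (W x) (hW x)).hom hbij
        have hπ : ∀ r : Γ(X, W x), γ ((𝒜.toQCAlg.π.app (W x)).hom r) = (𝒜.str.app (op (W x))).hom r := fun r =>
          congr($(𝒜.toQCAlg.π_app_gammaAff (W x) (hW x)).hom r)
        have im1 : ∀ r, φ.IsIntegralElem (γ.symm ((𝒜.str.app (op (W x))).hom r)) := fun r => by
          rw [← hπ, RingEquiv.symm_apply_apply]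
          have h1 : (𝒜.toQCAlg.π.app (W x)).hom r = φ (((pullback.fst p g).app (W x)).hom r) := by
            have h2 : (pullback.fst p g).appLE (W x) (pullback.fst p g ⁻¹ᵁ W x) le_rfl ≫
                σ.appLE (pullback.fst p g ⁻¹ᵁ W x) (𝒜.toQCAlg.π ⁻¹ᵁ W x) hσ.ge =
                  𝒜.toQCAlg.π.app (W x) := by
              rw [Scheme.Hom.appLE_comp_appLE, Scheme.Hom.app_eq_appLE]
              simp only [σ, pullback.lift_fst]
            rw [← h2, ← Scheme.Hom.app_eq_appLE]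
            rfl
          rw [h1]
          exact φ.isIntegralElem_map
        have hWU : W x ≤ p ⁻¹ᵁ (i x).1.1 := (hWl x).trans (AmpleX.locus_le _)
        obtain ⟨f, c, hcu, hfc⟩ := hcoordD (i x) (W x) (hW x) hWU (hWl x) (s x) (hs x)
        have im2 : φ.IsIntegralElem (γ.symm (jv 𝒜.toQCAlg jL (W x) (s x))) := by
          obtain ⟨u, hu⟩ := hcu
          set m := (i x).2.1.1
          let k : Γ(pullback p g, pullback.fst p g ⁻¹ᵁ W x) :=
            ((pullback.fst p g).app (W x)).hom (↑u⁻¹ : Γ(X, W x)) *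
              ((pullback.snd p g).appLE (g ⁻¹ᵁ (i x).1.1) (pullback.fst p g ⁻¹ᵁ W x) (by
                refine ((pullback.fst p g).preimage_mono hWU).trans ?_
                rw [← Scheme.Hom.comp_preimage, ← Scheme.Hom.comp_preimage, pullback.condition])).hom f
          have hk : γ.symm (jv 𝒜.toQCAlg jL (W x) (s x)) ^ m = φ k := by
            apply γ.injective
            rw [map_pow, RingEquiv.apply_symm_apply, map_mul, map_mul]
            have h1 : φ (((pullback.fst p g).app (W x)).hom (↑u⁻¹ : Γ(X, W x))) =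
                (𝒜.toQCAlg.π.app (W x)).hom (↑u⁻¹ : Γ(X, W x)) := by
              show ((pullback.fst p g).app (W x) ≫ σ.appLE _ _ hσ.ge).hom _ = _
              rw [Scheme.Hom.app_eq_appLE, Scheme.Hom.appLE_comp_appLE, Scheme.Hom.app_eq_appLE]
              simp only [σ, pullback.lift_fst]
            rw [h1, hπ]
            have h2 : ∀ e, φ (((pullback.snd p g).appLE (g ⁻¹ᵁ (i x).1.1) (pullback.fst p g ⁻¹ᵁ W x) e).hom f) =
                (q.appLE (g ⁻¹ᵁ (i x).1.1) (𝒜.toQCAlg.π ⁻¹ᵁ W x)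
                  ((𝒜.toQCAlg.π.preimage_mono hWU).trans (RelSpecX.preimage_eq g h q hq _).le)).hom f := fun e => by
              show ((pullback.snd p g).appLE _ _ e ≫ σ.appLE _ _ hσ.ge).hom _ = _
              rw [Scheme.Hom.appLE_comp_appLE]
              simp only [σ, pullback.lift_snd]
            rw [h2]
            refine Eq.trans ?_ (congrArg ((𝒜.str.app (op (W x))).hom (↑u⁻¹ : Γ(X, W x)) * ·) hfc).symm
            rw [← hu, ← mul_assoc, ← map_mul, u.inv_mul, map_one, one_mul]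
          refine ⟨Polynomial.X ^ m - Polynomial.C k, Polynomial.monic_X_pow_sub_C k (i x).2.1.2.ne', ?_⟩
          rw [Polynomial.eval₂_sub, Polynomial.eval₂_pow, Polynomial.eval₂_X, Polynomial.eval₂_C, hk, sub_self]
        intro v
        obtain ⟨P, hP⟩ := (S12143.evT_bijective hLq hA.1 (hW x) (s x) (QRel17.bijective_of_isFrame (hs x))).2 (γ v)
        rw [← γ.symm_apply_apply v, ← hP]
        clear hP
        induction P using Polynomial.induction_on with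
        | C r => rw [show S12143.evT jL (s x) (Polynomial.C r) = _ from Polynomial.eval₂_C _ _]; exact im1 r
        | add P P' h1 h2 => rw [map_add, map_add]; exact h1.add φ h2
        | monomial n r h1 =>
          rw [pow_succ, ← mul_assoc, map_mul, map_mul,
            show S12143.evT jL (s x) Polynomial.X = _ from Polynomial.eval₂_X _ _]
          exact h1.mul φ im2
      have e2 : ∀ {A : 𝒜.toQCAlg.spec.Opens} (e : A ≤ σ ⁻¹ᵁ (pullback.fst p g ⁻¹ᵁ W x)),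
          A = 𝒜.toQCAlg.π ⁻¹ᵁ W x → (σ.appLE (pullback.fst p g ⁻¹ᵁ W x) A e).hom.IsIntegral :=
        fun e hA => by subst hA; exact key
      have e3 : ∀ {B : (pullback p g).Opens}, B = pullback.fst p g ⁻¹ᵁ W x → (σ.app B).hom.IsIntegral := by
        rintro _ rfl
        rw [Scheme.Hom.app_eq_appLE]
        exact e2 _ hσ
      show ((σ ∣_ (pullback.fst p g ⁻¹ᵁ W x)).app ⊤).hom.IsIntegral
      rw [morphismRestrict_app, CommRingCat.hom_comp]
      refine RingHom.IsIntegral.trans _ _ (e3 (Scheme.Opens.ι_image_top _)) ?_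
      exact RingHom.isIntegral_of_surjective _ (ConcreteCategory.bijective_of_isIso _).2
    haveI : UniversallyClosed q := by
      rw [← pullback.lift_snd 𝒜.toQCAlg.π q hq.symm]
      infer_instance
    haveI : QuasiCompact (q ≫ g) := by rw [hq]; infer_instance
    exact ⟨⟩
  refine ⟨hproper, le_antisymm (fun z hz hz' => Set.eq_empty_iff_forall_notMem.1 hdisj z ⟨hz, hz'⟩) fun z hz => ?_⟩
  haveI := hproper
  haveI : IsClosedImmersion (ε ≫ g) := by rw [hε]; infer_instance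
  haveI : IsClosedImmersion ε := IsClosedImmersion.of_comp ε g
  have hz2 : z ∈ Set.range q := by
    by_contra hzq
    obtain ⟨U, hU, hzU, -⟩ := exists_isAffineOpen_mem_and_subset (X := Y) (x := g z) (U := ⊤) trivial
    obtain ⟨f, hfle, hzf⟩ := (hU.preimage g).exists_basicOpen_le
      (V := ⟨(Set.range q ∪ Set.range ε)ᶜ,
        (q.isClosedMap.isClosed_range.union ε.isClosedEmbedding.isClosed_range).isOpen_compl⟩)
      ⟨z, fun h' => h'.elim hzq hz⟩ hzU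
    have h1 : IsNilpotent ((q.appLE (g ⁻¹ᵁ U) (h ⁻¹ᵁ U) (RelSpecX.preimage_eq g h q hq U).le).hom f) := by
      refine (Scheme.isNilpotent_iff_basicOpen_eq_bot_of_isCompact (h.isCompact_preimage hU.isCompact) _).2 ?_
      rw [Scheme.basicOpen_appLE, eq_bot_iff]
      exact fun v hv => hfle hv.2 (Or.inl ⟨v, rfl⟩)
    have h2 : IsNilpotent ((ε.appLE (g ⁻¹ᵁ U) U (RelSpecX.preimage_eq g (𝟙 Y) ε hε U).le).hom f) := by
      refine (Scheme.isNilpotent_iff_basicOpen_eq_bot_of_isCompact hU.isCompact _).2 ?_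
      rw [Scheme.basicOpen_appLE, eq_bot_iff]
      exact fun v hv => hfle hv.2 (Or.inr ⟨v, rfl⟩)
    obtain ⟨n₁, hn₁⟩ := h1
    obtain ⟨n₂, hn₂⟩ := h2
    have h3 : f ^ (n₁ + n₂) = 0 := (hpairs U).1 _ _
      (by rw [map_pow, map_zero, pow_add, hn₁, zero_mul]) (by rw [map_pow, map_zero, pow_add, hn₂, mul_zero])
    rw [(Scheme.isNilpotent_iff_basicOpen_eq_bot_of_isCompact (hU.preimage g).isCompact f).1 ⟨_, h3⟩] at hzf
    exact hzf
  obtain ⟨v, rfl⟩ := hz2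
  by_cases hv : v ∈ V0
  · exact ⟨⟨v, hv⟩, rfl⟩
  · rw [← SetLike.mem_coe, hV0, Set.mem_compl_iff, not_not] at hv
    obtain ⟨x, rfl⟩ := hv
    refine absurd ⟨p x, ?_⟩ hz
    rw [← Scheme.Hom.comp_apply, ← hjq, Scheme.Hom.comp_apply]

include hL hLq hA haug hj0 hV0 hamp in
theorem exists_contraction [IsSeparated p] [QuasiCompact p] :
    ∃ (C : Scheme.{u}) (g : C ⟶ Y) (ε : Y ⟶ C) (q : 𝒜.toQCAlg.spec ⟶ C),
      ε ≫ g = 𝟙 Y ∧ q ≫ g = 𝒜.toQCAlg.π ≫ p ∧ j0 ≫ q = p ≫ ε ∧ IsSeparated g ∧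
        IsOpenImmersion (V0.ι ≫ q) ∧ QuasiCompact (V0.ι ≫ q) ∧
          Set.range (V0.ι ≫ q) ∩ Set.range ε = ∅ ∧
            (IsProper p → IsProper q ∧ Set.range (V0.ι ≫ q) = (Set.range ε)ᶜ) := by
  have hj : j0 ≫ 𝒜.toQCAlg.π ≫ p = p := by rw [← Category.assoc, hj0.comp_π, Category.id_comp]
  obtain ⟨C, g, ε, q, hq, hε, haff, hjq, hpairs⟩ := exists_pinch (𝒜.toQCAlg.π ≫ p) p j0 hj
  haveI := haff
  exact ⟨C, g, ε, q, hε, hq, hjq, inferInstance,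
    pinch_isContraction hL hLq hA haug hj0 hV0 hamp hε hq hjq hpairs⟩

end

end Groth.Agent.Contract17
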