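import Groth.Agent.Contract17.Zero
import Mathlib.RingTheory.PowerSeries.NoZeroDivisors

/-!
# A contraction of the zero section gives ampleness
-/

set_option autoImplicit false
set_option linter.style.haveILetI false
set_option backward.isDefEq.respectTransparency false
set_option backward.isDefEq.respectTransparency.types false

universe u

open CategoryTheory CategoryTheory.Limits AlgebraicGeometry TopologicalSpace Opposite

noncomputable section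

namespace Groth.Agent.Contract17

open Groth.Agent Groth.Agent.AModX Groth.Agent.SymAlgX

variable {X Y C : Scheme.{u}} {p : X ⟶ Y} {L : X.Modules} (hL : PicF.IsInvertible L) (hLq : Coh.IsQCoh L)
  {𝒜 : RelProj.QCGrAlg X} {jL : L ⟶ 𝒜.toModule} (hA : RelProj.IsGrSymAlg L 𝒜 jL)
  {aug : 𝒜.toQCAlg ⟶ RelSpec.QCAlg.unit X} (haug : RelCone.IsAugmentation 𝒜 aug)
  {j0 : X ⟶ 𝒜.toQCAlg.spec} (hj0 : RelCone.IsVertex 𝒜 aug j0)
  {V0 : 𝒜.toQCAlg.spec.Opens} (hV0 : (V0 : Set 𝒜.toQCAlg.spec) = (Set.range j0)ᶜ)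
  {ε : Y ⟶ C} {q : 𝒜.toQCAlg.spec ⟶ C} (hjq : j0 ≫ q = p ≫ ε)

variable {W₀ : C.Opens} {O : Y.Opens} (hO : O ≤ ε ⁻¹ᵁ W₀)
  {U : X.Opens} (hU : IsAffineOpen U) (hUO : U ≤ p ⁻¹ᵁ O) {s : Γ(L, U)} (hs : InvX.IsFrame s)

include haug hj0 hjq hO hUO in
theorem top_le_preimage_series : ⊤ ≤ (fnbhd hLq hA hU hs ≫ q) ⁻¹ᵁ W₀ :=
  top_le_preimage_fnbhd hLq hA haug hj0 hU hs (Ω := q ⁻¹ᵁ W₀) fun x hx => by
    show q (j0 x) ∈ W₀
    rw [← Scheme.Hom.comp_apply, hjq, Scheme.Hom.comp_apply]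
    exact hO (hUO hx)

/-- The expansion of a function on the contracted space along the zero section. -/
def series : Γ(C, W₀) →+* PowerSeries Γ(X, U) :=
  ((fnbhd hLq hA hU hs ≫ q).appLE W₀ ⊤ (top_le_preimage_series hLq hA haug hj0 hjq hO hU hUO hs) ≫
    (Scheme.ΓSpecIso (CommRingCat.of (PowerSeries Γ(X, U)))).hom).hom

theorem mem_basicOpen_iff (f : Γ(C, W₀)) (P : Spec (CommRingCat.of (PowerSeries Γ(X, U)))) :
    q (fnbhd hLq hA hU hs P) ∈ C.basicOpen f ↔ series hLq hA haug hj0 hjq hO hU hUO hs f ∉ P.asIdeal := by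
  have h1 := Scheme.basicOpen_appLE (fnbhd hLq hA hU hs ≫ q) ⊤ _
    (top_le_preimage_series hLq hA haug hj0 hjq hO hU hUO hs) f
  rw [top_inf_eq, basicOpen_eq_of_affine'] at h1
  show P ∈ (fnbhd hLq hA hU hs ≫ q) ⁻¹ᵁ C.basicOpen f ↔ _
  rw [← h1]
  rfl

/-- The prime of power series with all coefficients in a prime. -/
def genPt (𝔭 : Spec Γ(X, U)) : Spec (CommRingCat.of (PowerSeries Γ(X, U))) :=
  ⟨RingHom.ker (PowerSeries.map (Ideal.Quotient.mk 𝔭.asIdeal)), RingHom.ker_isPrime _⟩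

theorem mem_genPt (𝔭 : Spec Γ(X, U)) (g : PowerSeries Γ(X, U)) :
    g ∈ (genPt 𝔭).asIdeal ↔ ∀ n, PowerSeries.coeff n g ∈ 𝔭.asIdeal := by
  show PowerSeries.map (Ideal.Quotient.mk 𝔭.asIdeal) g = 0 ↔ _
  rw [PowerSeries.ext_iff]
  refine forall_congr' fun n => ?_
  rw [PowerSeries.coeff_map, map_zero, Ideal.Quotient.eq_zero_iff_mem]

include haug hj0 hV0 in
theorem fnbhd_genPt (𝔭 : Spec Γ(X, U)) :
    fnbhd hLq hA hU hs (genPt 𝔭) ∈ V0 ∧ 𝒜.toQCAlg.π (fnbhd hLq hA hU hs (genPt 𝔭)) = hU.fromSpec 𝔭 := by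
  constructor
  · rw [← SetLike.mem_coe, hV0]
    refine fnbhd_notMem_range hLq hA haug hj0 hU hs _ fun hX => 𝔭.isPrime.ne_top ?_
    have h1 := (mem_genPt 𝔭 _).1 hX 1
    rw [PowerSeries.coeff_one_X] at h1
    exact (Ideal.eq_top_iff_one _).2 h1
  · rw [← Scheme.Hom.comp_apply, fnbhd_π, Scheme.Hom.comp_apply]
    refine congrArg hU.fromSpec (PrimeSpectrum.ext (Ideal.ext fun r => ?_))
    show PowerSeries.C r ∈ (genPt 𝔭).asIdeal ↔ r ∈ 𝔭.asIdeal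
    rw [mem_genPt]
    refine ⟨fun h => by simpa using h 0, fun h n => ?_⟩
    rw [PowerSeries.coeff_C]
    split_ifs
    · exact h
    · exact zero_mem _

variable {D : X.Opens} (hD : IsAffineOpen D) (hDU : D ≤ U) {t : Γ(L, D)} (ht : InvX.IsFrame t)

theorem series_reframe (f : Γ(C, W₀)) {c : Γ(X, D)} (hc : AModX.res L hDU s = c • t) :
    series hLq hA haug hj0 hjq hO hD (hDU.trans hUO) ht f =
      reframe hDU c (series hLq hA haug hj0 hjq hO hU hUO hs f) := by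
  let R : CommRingCat.of (PowerSeries Γ(X, U)) ⟶ CommRingCat.of (PowerSeries Γ(X, D)) :=
    CommRingCat.ofHom (reframe hDU c)
  have h1 : fnbhd hLq hA hD ht = Spec.map R ≫ fnbhd hLq hA hU hs := by
    rw [fnbhd, fnbhd, ← RelSpecX.ι_res_le 𝒜.toQCAlg hU hD hDU, ← Spec.map_comp_assoc, ← Spec.map_comp_assoc]
    congr 2
    exact CommRingCat.hom_ext (RingHom.ext fun x => expand_rs hLq hA hU hs hD hDU ht hc x)
  have e := top_le_preimage_series hLq hA haug hj0 hjq hO hU hUO hs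
  have key : (fnbhd hLq hA hD ht ≫ q).appLE W₀ ⊤
        (top_le_preimage_series hLq hA haug hj0 hjq hO hD (hDU.trans hUO) ht) ≫ (Scheme.ΓSpecIso _).hom =
      (fnbhd hLq hA hU hs ≫ q).appLE W₀ ⊤ e ≫ (Scheme.ΓSpecIso _).hom ≫ R := by
    simp only [h1, Category.assoc]
    rw [← Scheme.ΓSpecIso_naturality, ← Category.assoc ((fnbhd hLq hA hU hs ≫ q).appLE W₀ ⊤ e)]
    refine congrArg (· ≫ _) ?_
    rw [Scheme.Hom.appTop, Scheme.Hom.app_eq_appLE, Scheme.Hom.appLE_comp_appLE]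
    rfl
  exact congr($(key).hom f)

include hL hLq hA haug hj0 hV0 hjq in
theorem isRelAmple_of_contraction [QuasiCompact p] [IsOpenImmersion (V0.ι ≫ q)]
    (hdisj : Set.range (V0.ι ≫ q) ∩ Set.range ε = ∅) : RelAmple.IsRelAmple p L := by
  classical
  refine AmpleX.isRelAmple_of_sections hL fun x₀ => ?_
  obtain ⟨W₀, hW₀, hxW₀, -⟩ := exists_isAffineOpen_mem_and_subset (X := C) (x := ε (p x₀)) (U := ⊤) trivial
  obtain ⟨O, hO', hxO, hOle⟩ :=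
    exists_isAffineOpen_mem_and_subset (X := Y) (x := p x₀) (U := ε ⁻¹ᵁ W₀) hxW₀
  have hO : O ≤ ε ⁻¹ᵁ W₀ := hOle
  refine ⟨O, hxO, p.isCompact_preimage hO'.isCompact, fun x hx => ?_⟩
  obtain ⟨N, hN, hxN, hNO, e, he⟩ := QRel17.exists_affine_frame hL (show x ∈ p ⁻¹ᵁ O from hx)
  obtain ⟨𝔭, h𝔭⟩ := hN.range_fromSpec.ge hxN
  set v₀ := fnbhd hLq hA hN he (genPt 𝔭)
  obtain ⟨hv₀, hπv₀⟩ := fnbhd_genPt hLq hA haug hj0 hV0 hN he 𝔭
  let O' : C.Opens := (V0.ι ≫ q) ''ᵁ (V0.ι ⁻¹ᵁ (𝒜.toQCAlg.π ⁻¹ᵁ N))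
  have hqO' : q v₀ ∈ O' := ⟨⟨v₀, hv₀⟩, by
    show 𝒜.toQCAlg.π v₀ ∈ N
    rw [hπv₀, h𝔭]; exact hxN, rfl⟩
  have hqW : q v₀ ∈ W₀ :=
    top_le_preimage_series hLq hA haug hj0 hjq hO hN hNO he (show genPt 𝔭 ∈ (⊤ : Opens _) from trivial)
  obtain ⟨f, hfle, hqf⟩ := hW₀.exists_basicOpen_le (V := O') ⟨q v₀, hqO'⟩ hqW
  obtain ⟨n, hn⟩ : ∃ n, PowerSeries.coeff n (series hLq hA haug hj0 hjq hO hN hNO he f) ∉ 𝔭.asIdeal := by
    have h1 := (mem_basicOpen_iff hLq hA haug hj0 hjq hO hN hNO he f (genPt 𝔭)).1 hqf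
    rw [mem_genPt] at h1
    exact not_forall.1 h1
  have hn0 : 0 < n := by
    refine Nat.pos_of_ne_zero fun h0 => ?_
    subst h0
    let Q : Spec (CommRingCat.of (PowerSeries Γ(X, N))) :=
      Spec.map (CommRingCat.ofHom (PowerSeries.constantCoeff (R := Γ(X, N)))) 𝔭
    have h1 : q (fnbhd hLq hA hN he Q) ∈ C.basicOpen f :=
      (mem_basicOpen_iff hLq hA haug hj0 hjq hO hN hNO he f Q).2 fun hQ => hn (by
        rw [PowerSeries.coeff_zero_eq_constantCoeff_apply]; exact hQ)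
    obtain ⟨w, -, hw⟩ := hfle h1
    refine Set.eq_empty_iff_forall_notMem.1 hdisj _ ⟨⟨w, hw⟩, ⟨p (hN.fromSpec 𝔭), ?_⟩⟩
    rw [← Scheme.Hom.comp_apply, ← hjq, Scheme.Hom.comp_apply]
    refine congrArg q ?_
    exact (congr($(fnbhd_constantCoeff hLq hA haug hj0 hN he) 𝔭)).symm
  -- glue the coefficients
  choose U hU hxU hUle s hs using fun z : ((p ⁻¹ᵁ O : X.Opens) : Set X) =>
    QRel17.exists_affine_frame hL (show z.1 ∈ p ⁻¹ᵁ O from z.2)
  have trans : ∀ (z) (D : X.Opens) (hD : IsAffineOpen D) (h : D ≤ U z) (t : Γ(L, D)) (ht : InvX.IsFrame t),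
      res _ h (PowerSeries.coeff n (series hLq hA haug hj0 hjq hO (hU z) (hUle z) (hs z) f) •
          FrobSplit29.powT (s z) n) =
        PowerSeries.coeff n (series hLq hA haug hj0 hjq hO hD (h.trans (hUle z)) ht f) •
          FrobSplit29.powT t n := fun z D hD h t ht => by
    obtain ⟨c, hc⟩ := (QRel17.bijective_of_isFrame ht).2 (res L h (s z))
    rw [series_reframe hLq hA haug hj0 hjq hO (hU z) (hUle z) (hs z) hD h ht f hc.symm, coeff_reframe, res_smul,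
      FrobSplit29.powT_res, ← hc, FrobSplit29.powT_smul, ← mul_smul, mul_comm]
  obtain ⟨a, ha, -⟩ := existsUnique_glue (M := CohB1.tensorPow L n) U hUle (fun z hz => ⟨⟨z, hz⟩, hxU _⟩)
    (fun z => PowerSeries.coeff n (series hLq hA haug hj0 hjq hO (hU z) (hUle z) (hs z) f) •
      FrobSplit29.powT (s z) n) fun i j => by
    refine eq_of_locally _ _ fun z hz => ?_
    obtain ⟨D, hD, hzD, hDle⟩ := exists_isAffineOpen_mem_and_subset (X := X) (x := z) (U := U i ⊓ U j) hz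
    have hDi : D ≤ U i := fun w hw => (hDle hw).1
    have hDj : D ≤ U j := fun w hw => (hDle hw).2
    refine ⟨D, hDle, hzD, ?_⟩
    rw [res_res, res_res, trans i D hD hDi _ ((hs i).res hDi), trans j D hD hDj _ ((hs i).res hDi)]
  have hloc : ∀ (z : ((p ⁻¹ᵁ O : X.Opens) : Set X)) (D : X.Opens) (hD : IsAffineOpen D) (h : D ≤ U z)
      (t : Γ(L, D)) (ht : InvX.IsFrame t) (𝔮 : Spec Γ(X, D)),
      hD.fromSpec 𝔮 ∈ AmpleX.locus a ↔
        PowerSeries.coeff n (series hLq hA haug hj0 hjq hO hD (h.trans (hUle z)) ht f) ∉ 𝔮.asIdeal := by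
    intro z D hD h t ht 𝔮
    have h1 : res _ (h.trans (hUle z)) a =
        PowerSeries.coeff n (series hLq hA haug hj0 hjq hO hD (h.trans (hUle z)) ht f) • FrobSplit29.powT t n := by
      rw [← res_res (hUle z) h, ha, trans z D hD h t ht]
    have h2 := AmpleX.locus_inf a (h.trans (hUle z)) (FrobSplit29.isFrame_powT ht n) h1
    have h3 : hD.fromSpec 𝔮 ∈ D := hD.range_fromSpec.le ⟨𝔮, rfl⟩
    have h4 : hD.fromSpec 𝔮 ∈ AmpleX.locus a ↔ hD.fromSpec 𝔮 ∈ AmpleX.locus a ⊓ D :=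
      ⟨fun h => ⟨h, h3⟩, fun h => h.1⟩
    rw [h4, h2]
    show 𝔮 ∈ hD.fromSpec ⁻¹ᵁ X.basicOpen _ ↔ _
    rw [hD.fromSpec_preimage_basicOpen]
    rfl
  have hle : AmpleX.locus a ≤ N := fun z hz => by
    let z' : ((p ⁻¹ᵁ O : X.Opens) : Set X) := ⟨z, AmpleX.locus_le a hz⟩
    obtain ⟨𝔮, h𝔮⟩ := (hU z').range_fromSpec.ge (hxU z')
    rw [show z = (hU z').fromSpec 𝔮 from h𝔮.symm] at hz
    have h1 := (hloc z' (U z') (hU z') le_rfl _ (hs z') 𝔮).1 hz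
    have h2 : q (fnbhd hLq hA (hU z') (hs z') (genPt 𝔮)) ∈ C.basicOpen f :=
      (mem_basicOpen_iff hLq hA haug hj0 hjq hO (hU z') (hUle z') (hs z') f _).2 fun h =>
        h1 ((mem_genPt 𝔮 _).1 h n)
    obtain ⟨hv, hπv⟩ := fnbhd_genPt hLq hA haug hj0 hV0 (hU z') (hs z') 𝔮
    obtain ⟨w, hwN, hw⟩ := hfle h2
    have hwv : w = ⟨fnbhd hLq hA (hU z') (hs z') (genPt 𝔮), hv⟩ :=
      (V0.ι ≫ q).isOpenEmbedding.injective (hw.trans rfl)
    subst hwv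
    have h3 : 𝒜.toQCAlg.π (fnbhd hLq hA (hU z') (hs z') (genPt 𝔮)) ∈ N := hwN
    rw [hπv, h𝔮] at h3
    exact h3
  refine ⟨n, hn0, a, ?_, ?_⟩
  · let x' : ((p ⁻¹ᵁ O : X.Opens) : Set X) := ⟨x, hx⟩
    obtain ⟨D, hD, hxD, hDle⟩ := exists_isAffineOpen_mem_and_subset (X := X) (x := x) (U := U x' ⊓ N)
      ⟨hxU x', hxN⟩
    have hDN : D ≤ N := fun w hw => (hDle hw).2
    have hDU : D ≤ U x' := fun w hw => (hDle hw).1
    obtain ⟨𝔮, h𝔮⟩ := hD.range_fromSpec.ge hxD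
    rw [← h𝔮, hloc x' D hD hDU _ (he.res hDN) 𝔮,
      series_reframe hLq hA haug hj0 hjq hO hN hNO he hD hDN (he.res hDN) f (one_smul _ _).symm, coeff_reframe,
      one_pow, one_mul]
    intro hmem
    refine hn ?_
    have hp : Spec.map (X.presheaf.map (homOfLE hDN).op) 𝔮 = 𝔭 := by
      refine hN.fromSpec.isOpenEmbedding.injective ?_
      rw [h𝔭, ← h𝔮, ← Scheme.Hom.comp_apply]
      exact congr($(hN.map_fromSpec hD (homOfLE hDN).op) 𝔮)
    rw [← hp]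
    exact hmem
  · rw [← inf_eq_right.2 hle]
    exact AmpleX.isAffineOpen_inf_locus (InvX.isInvertible_tensorPow hL n) hN a hNO

end Groth.Agent.Contract17
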