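import Groth.Agent.Contract17.OfAmple

/-!
# The canonical contraction for a morphism with trivial direct image
-/

set_option autoImplicit false
set_option linter.style.haveILetI false
set_option backward.isDefEq.respectTransparency false
set_option backward.isDefEq.respectTransparency.types false

universe u

open CategoryTheory CategoryTheory.Limits AlgebraicGeometry TopologicalSpace Opposite

noncomputable section

namespace Groth.Agent.Contract17

open Groth.Agent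

/-- A morphism inverting the structure sheaves is injective on sections. -/
theorem app_bijective_of_isIso_c {X Y : Scheme.{u}} (p : X ⟶ Y) (h : IsIso p.c) (U : Y.Opens) :
    Function.Bijective (p.app U).hom := by
  haveI := h
  have : IsIso (p.app U) := inferInstanceAs (IsIso (p.c.app (op U)))
  exact ConcreteCategory.bijective_of_isIso (p.app U)

/-- A proper morphism with `O_Y ⟶ p_* O_X` an isomorphism is surjective. -/
theorem surjective_of_isIso_c {X Y : Scheme.{u}} (p : X ⟶ Y) [QuasiCompact p] [UniversallyClosed p]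
    (h : IsIso p.c) : Function.Surjective p := fun y => by
  by_contra hy
  obtain ⟨U, hU, hyU, -⟩ := exists_isAffineOpen_mem_and_subset (X := Y) (x := y) (U := ⊤) trivial
  obtain ⟨f, hfle, hyf⟩ := hU.exists_basicOpen_le
    (V := ⟨(Set.range p)ᶜ, p.isClosedMap.isClosed_range.isOpen_compl⟩) ⟨y, hy⟩ hyU
  have h1 : IsNilpotent ((p.app U).hom f) := by
    refine (Scheme.isNilpotent_iff_basicOpen_eq_bot_of_isCompact (p.isCompact_preimage hU.isCompact) _).2 ?_
    rw [← Scheme.preimage_basicOpen, eq_bot_iff]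
    exact fun v hv => hfle hv ⟨v, rfl⟩
  rw [IsNilpotent.map_iff (app_bijective_of_isIso_c p h U).1] at h1
  rw [(Scheme.isNilpotent_iff_basicOpen_eq_bot_of_isCompact hU.isCompact f).1 h1] at hyf
  exact hyf

section

variable {V Y C : Scheme.{u}} {h : V ⟶ Y} [QuasiCompact h] [QuasiSeparated h] {g : C ⟶ Y} [IsAffineHom g]
  {q : V ⟶ C} (hq : q ≫ g = h)
  (hbij : ∀ U : Y.Opens, IsAffineOpen U → Function.Bijective
    (q.appLE (g ⁻¹ᵁ U) (h ⁻¹ᵁ U) (RelSpecX.preimage_eq g h q hq U).le).hom)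

include hq hbij in
/-- A morphism to a scheme affine over the base which is bijective on functions over affines of the base
has trivial direct image. -/
theorem isIso_c_of_bijective : IsIso q.c := by
  let ι := Σ U : Y.affineOpens, Γ(C, g ⁻¹ᵁ U.1)
  have hB : Opens.IsBasis (Set.range fun i : ι => C.basicOpen i.2) := by
    refine Opens.isBasis_iff_nbhd.mpr fun {O x} hx => ?_
    obtain ⟨U, hU, hxU, -⟩ := exists_isAffineOpen_mem_and_subset (X := Y) (x := g x) (U := ⊤) trivial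
    obtain ⟨f, hfle, hxf⟩ := (hU.preimage g).exists_basicOpen_le (V := O) ⟨x, hx⟩ hxU
    exact ⟨_, ⟨⟨⟨U, hU⟩, f⟩, rfl⟩, hxf, hfle⟩
  let F : TopCat.Sheaf CommRingCat C.toPresheafedSpace := C.sheaf
  let G : TopCat.Sheaf CommRingCat C.toPresheafedSpace :=
    ⟨q.base _* V.presheaf, TopCat.Sheaf.pushforward_sheaf_of_sheaf _ V.sheaf.property⟩
  let φ : F ⟶ G := ⟨q.c⟩
  have : IsIso φ := TopCat.Sheaf.isIso_iff_isIso_basis hB fun i => by
    obtain ⟨⟨U, hU⟩, f⟩ := i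
    show IsIso (q.app (C.basicOpen f))
    have hgU := hU.preimage g
    set b := (q.appLE (g ⁻¹ᵁ U) (h ⁻¹ᵁ U) (RelSpecX.preimage_eq g h q hq U).le).hom f with hb
    have hqD : q ⁻¹ᵁ C.basicOpen f = V.basicOpen b := by
      rw [hb, Scheme.basicOpen_appLE,
        inf_eq_right.2 ((q.preimage_mono (C.basicOpen_le f)).trans (RelSpecX.preimage_eq g h q hq U).ge)]
    letI : Algebra Γ(C, g ⁻¹ᵁ U) Γ(C, C.basicOpen f) := (C.presheaf.map (homOfLE (C.basicOpen_le f)).op).hom.toAlgebra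
    haveI : IsLocalization.Away f Γ(C, C.basicOpen f) := hgU.isLocalization_basicOpen f
    letI : Algebra Γ(V, h ⁻¹ᵁ U) Γ(V, V.basicOpen b) := (V.presheaf.map (homOfLE (V.basicOpen_le b)).op).hom.toAlgebra
    haveI : IsLocalization.Away b Γ(V, V.basicOpen b) :=
      isLocalization_basicOpen_of_qcqs (h.isCompact_preimage hU.isCompact)
        (h.isQuasiSeparated_preimage hU.isQuasiSeparated) b
    set aq := (q.appLE (g ⁻¹ᵁ U) (h ⁻¹ᵁ U) (RelSpecX.preimage_eq g h q hq U).le).hom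
    let e : Γ(C, g ⁻¹ᵁ U) ≃+* Γ(V, h ⁻¹ᵁ U) := RingEquiv.ofBijective aq (hbij U hU)
    let e' := IsLocalization.ringEquivOfRingEquiv (M := Submonoid.powers f) (T := Submonoid.powers b)
      Γ(C, C.basicOpen f) Γ(V, V.basicOpen b) e (by rw [Submonoid.map_powers]; rfl)
    have h1 : ∀ z, (q.appLE (C.basicOpen f) (V.basicOpen b) hqD.ge).hom z = e' z := by
      refine RingHom.congr_fun (IsLocalization.ringHom_ext (Submonoid.powers f)
        (j := (q.appLE (C.basicOpen f) (V.basicOpen b) hqD.ge).hom) (k := (e' : _ →+* _)) (RingHom.ext fun x => ?_))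
      show (C.presheaf.map _ ≫ q.appLE (C.basicOpen f) (V.basicOpen b) hqD.ge).hom x = e' (algebraMap _ _ x)
      rw [Scheme.Hom.map_appLE, IsLocalization.ringEquivOfRingEquiv_eq, RingEquiv.ofBijective_apply]
      show _ = (q.appLE (g ⁻¹ᵁ U) (h ⁻¹ᵁ U) _ ≫ V.presheaf.map (homOfLE (V.basicOpen_le b)).op).hom x
      rw [Scheme.Hom.appLE_map]
    have h2 : q.app (C.basicOpen f) = q.appLE (C.basicOpen f) (V.basicOpen b) hqD.ge ≫
        V.presheaf.map (eqToHom hqD).op := by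
      rw [Scheme.Hom.appLE_map, Scheme.Hom.app_eq_appLE]
    rw [ConcreteCategory.isIso_iff_bijective, h2]
    refine (ConcreteCategory.bijective_of_isIso (V.presheaf.map (eqToHom hqD).op)).comp ?_
    convert e'.bijective using 1
    exact funext h1
  exact inferInstanceAs (IsIso ((TopCat.Sheaf.forget CommRingCat C.toPresheafedSpace).map φ))

end

section

variable {X Y : Scheme.{u}} {p : X ⟶ Y} {L : X.Modules} (hL : PicF.IsInvertible L) (hLq : Coh.IsQCoh L)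
  (hamp : RelAmple.IsRelAmple p L)
  {𝒜 : RelProj.QCGrAlg X} {jL : L ⟶ 𝒜.toModule} (hA : RelProj.IsGrSymAlg L 𝒜 jL)
  {aug : 𝒜.toQCAlg ⟶ RelSpec.QCAlg.unit X} (haug : RelCone.IsAugmentation 𝒜 aug)
  {j0 : X ⟶ 𝒜.toQCAlg.spec} (hj0 : RelCone.IsVertex 𝒜 aug j0)
  {V0 : 𝒜.toQCAlg.spec.Opens} (hV0 : (V0 : Set 𝒜.toQCAlg.spec) = (Set.range j0)ᶜ)

include hL hLq hamp hA haug hj0 hV0 in
/-- The canonical contraction. -/
theorem exists_stein [IsProper p] (hθ : IsIso p.c) {C' : Scheme.{u}} {g' : C' ⟶ Y} [IsAffineHom g']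
    {q' : 𝒜.toQCAlg.spec ⟶ C'} (hq' : q' ≫ g' = 𝒜.toQCAlg.π ≫ p)
    (hbij : ∀ U : Y.Opens, Function.Bijective (q'.appLE (g' ⁻¹ᵁ U) ((𝒜.toQCAlg.π ≫ p) ⁻¹ᵁ U)
      (RelSpecX.preimage_eq g' (𝒜.toQCAlg.π ≫ p) q' hq' U).le).hom) :
    ∃ ε' : Y ⟶ C', ε' ≫ g' = 𝟙 Y ∧ j0 ≫ q' = p ≫ ε' ∧ IsOpenImmersion (V0.ι ≫ q') ∧ IsProper q' ∧
      Set.range (V0.ι ≫ q') = (Set.range ε')ᶜ ∧ q' '' Set.range j0 = Set.range ε' ∧
      Function.Surjective q' ∧ IsIso q'.c := by
  haveI := hθ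
  let h := 𝒜.toQCAlg.π ≫ p
  have hj : j0 ≫ h = p := by rw [← Category.assoc, hj0.comp_π, Category.id_comp]
  haveI : IsIso (AffAlg.algHom g' h q' hq') := by
    refine @NatIso.isIso_of_isIso_app _ _ _ _ _ _ _ fun U => ?_
    obtain ⟨U⟩ := U
    rw [RelSpecX.algHom_app, ConcreteCategory.isIso_iff_bijective]
    exact hbij U
  let ω : AffAlg.alg g' ⟶ AffAlg.alg (𝟙 Y) :=
    AffAlg.algHom g' h q' hq' ≫ AffAlg.algHom h p j0 hj ≫ inv p.c
  have hω : g'.c ≫ ω = (𝟙 Y : Y ⟶ Y).c := by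
    show g'.c ≫ AffAlg.algHom g' h q' hq' ≫ AffAlg.algHom h p j0 hj ≫ inv p.c = _
    rw [← Category.assoc, AffAlg.algHom_comm, ← Category.assoc, AffAlg.algHom_comm, IsIso.hom_inv_id]
    rfl
  let ε' := RelSpecX.ofAlgHom g' (𝟙 Y) ⟨ω, hω⟩
  have hε' : ε' ≫ g' = 𝟙 Y := RelSpecX.ofAlgHom_comp _ _ _
  have aε : ∀ U : Y.Opens, ε'.appLE (g' ⁻¹ᵁ U) U (RelSpecX.preimage_eq g' (𝟙 Y) ε' hε' U).le ≫ p.app U =
      q'.appLE (g' ⁻¹ᵁ U) (h ⁻¹ᵁ U) (RelSpecX.preimage_eq g' h q' hq' U).le ≫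
        j0.appLE (h ⁻¹ᵁ U) (p ⁻¹ᵁ U) (RelSpecX.preimage_eq h p j0 hj U).le := fun U => by
    have h1 : ε'.appLE (g' ⁻¹ᵁ U) U (RelSpecX.preimage_eq g' (𝟙 Y) ε' hε' U).le = ω.app (op U) :=
      (RelSpecX.algHom_app g' (𝟙 Y) ε' hε' U).symm.trans
        (NatTrans.congr_app (RelSpecX.algHom_ofAlgHom g' (𝟙 Y) ⟨ω, hω⟩) (op U))
    rw [h1, ← RelSpecX.algHom_app g' h q' hq' U, ← RelSpecX.algHom_app h p j0 hj U]
    show ((AffAlg.algHom g' h q' hq').app (op U) ≫ (AffAlg.algHom h p j0 hj).app (op U) ≫ (inv p.c).app (op U)) ≫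
      p.c.app (op U) = _
    rw [Category.assoc, Category.assoc, ← NatTrans.comp_app, IsIso.inv_hom_id, NatTrans.id_app, Category.comp_id]
  have hjq : j0 ≫ q' = p ≫ ε' := by
    refine RelSpecX.algHom_injective g' p (by rw [Category.assoc, hq', hj])
      (by rw [Category.assoc, hε', Category.comp_id]) fun U => ?_
    rw [RelSpecX.algHom_app, RelSpecX.algHom_app]
    refine ((Scheme.Hom.appLE_comp_appLE j0 q' _ _ _ (RelSpecX.preimage_eq g' h q' hq' U.1).le
        (RelSpecX.preimage_eq h p j0 hj U.1).le).symm.trans ?_).trans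
      (Scheme.Hom.appLE_comp_appLE p ε' _ _ _ (RelSpecX.preimage_eq g' (𝟙 Y) ε' hε' U.1).le le_rfl)
    rw [← aε U.1]
    show _ = ε'.appLE (g' ⁻¹ᵁ U.1) U.1 (RelSpecX.preimage_eq g' (𝟙 Y) ε' hε' U.1).le ≫
      p.appLE U.1 (p ⁻¹ᵁ U.1) le_rfl
    rw [← Scheme.Hom.app_eq_appLE]
  obtain ⟨hoi, -, -, hprop⟩ := pinch_isContraction hL hLq hA haug hj0 hV0 hamp hε' hq' hjq fun U =>
    ⟨fun a b ha _ => (hbij U).1 ha, fun b c hbc => by
      obtain ⟨a, rfl⟩ := (hbij U).2 b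
      refine ⟨a, rfl, (app_bijective_of_isIso_c p hθ U).1 ?_⟩
      rw [← hbc]
      exact congr($(aε U).hom a)⟩
  obtain ⟨hp', hr⟩ := hprop inferInstance
  have himage : q' '' Set.range j0 = Set.range ε' := by
    rw [← Set.range_comp]
    refine Set.ext fun z => ⟨?_, ?_⟩
    · rintro ⟨x, rfl⟩
      exact ⟨p x, (congr($hjq x)).symm⟩
    · rintro ⟨y, rfl⟩
      obtain ⟨x, rfl⟩ := surjective_of_isIso_c p hθ y
      exact ⟨x, congr($hjq x)⟩
  refine ⟨ε', hε', hjq, hoi, hp', hr, himage, fun z => ?_,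
    isIso_c_of_bijective (h := h) hq' fun U _ => hbij U⟩
  by_cases hz : z ∈ Set.range ε'
  · obtain ⟨v, -, hv⟩ := himage.ge hz
    exact ⟨v, hv⟩
  · obtain ⟨v, hv⟩ := hr.ge hz
    exact ⟨v.1, hv⟩

end

end Groth.Agent.Contract17
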