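import Groth.Agent.QRel17.Sigma
import Groth.Agent.ConeX.Vertex
import Mathlib.RingTheory.PowerSeries.Substitution
import Mathlib.RingTheory.PowerSeries.Trunc

/-!
# The line bundle `Spec (Sym L)` near its zero section
-/

set_option autoImplicit false
set_option linter.style.haveILetI false
set_option backward.isDefEq.respectTransparency false
set_option backward.isDefEq.respectTransparency.types false

universe u

open CategoryTheory CategoryTheory.Limits AlgebraicGeometry TopologicalSpace Opposite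

noncomputable section

namespace Groth.Agent.Contract17

open Groth.Agent Groth.Agent.AModX Groth.Agent.SymAlgX

variable {X : Scheme.{u}} {L : X.Modules} (hL : PicF.IsInvertible L) (hLq : Coh.IsQCoh L)
  {𝒜 : RelProj.QCGrAlg X} {jL : L ⟶ 𝒜.toModule} (hA : RelProj.IsGrSymAlg L 𝒜 jL)
  {aug : 𝒜.toQCAlg ⟶ RelSpec.QCAlg.unit X} (haug : RelCone.IsAugmentation 𝒜 aug)
  {j0 : X ⟶ 𝒜.toQCAlg.spec} (hj0 : RelCone.IsVertex 𝒜 aug j0)

/-- The augmentation on the sections over an open. -/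
abbrev augR (aug : 𝒜.toQCAlg ⟶ RelSpec.QCAlg.unit X) (U : X.Opens) :
    𝒜.presheaf.obj (op U) →+* Γ(X, U) :=
  (aug.hom.app (op U)).hom

theorem augR_str (U : X.Opens) (r : Γ(X, U)) : augR aug U ((𝒜.str.app (op U)).hom r) = r :=
  congr($(NatTrans.congr_app aug.comm (op U)).hom r)

theorem augR_rs {U D : X.Opens} (h : D ≤ U) (x : 𝒜.presheaf.obj (op U)) :
    augR aug D (QRel17.rs 𝒜 h x) = (X.presheaf.map (homOfLE h).op).hom (augR aug U x) :=
  congr($(aug.hom.naturality (homOfLE h).op).hom x)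

variable {U : X.Opens} (hU : IsAffineOpen U) {s : Γ(L, U)} (hs : InvX.IsFrame s)

include hA haug hU in
theorem augR_jv : augR aug U (jv 𝒜.toQCAlg jL U s) = 0 := haug U hU 0 _ (hA.2 U hU s)

/-- The sections over an affine open with a frame are polynomials in the frame. -/
def polyEq : Polynomial Γ(X, U) ≃+* 𝒜.presheaf.obj (op U) :=
  RingEquiv.ofBijective _ (S12143.evT_bijective hLq hA.1 hU s (QRel17.bijective_of_isFrame hs))

theorem polyEq_apply (P : Polynomial Γ(X, U)) :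
    polyEq hLq hA hU hs P = Polynomial.eval₂ (𝒜.str.app (op U)).hom (jv 𝒜.toQCAlg jL U s) P := rfl

include hLq hA haug hU hs in
theorem exists_decomp (x : 𝒜.presheaf.obj (op U)) :
    ∃ a, x = (𝒜.str.app (op U)).hom (augR aug U x) + jv 𝒜.toQCAlg jL U s * a := by
  obtain ⟨P, rfl⟩ := (polyEq hLq hA hU hs).surjective x
  refine ⟨polyEq hLq hA hU hs P.divX, ?_⟩
  have h : polyEq hLq hA hU hs P = (𝒜.str.app (op U)).hom (P.coeff 0) +
      jv 𝒜.toQCAlg jL U s * polyEq hLq hA hU hs P.divX := by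
    conv_lhs => rw [← Polynomial.X_mul_divX_add P]
    rw [polyEq_apply, Polynomial.eval₂_add, Polynomial.eval₂_mul, Polynomial.eval₂_X, Polynomial.eval₂_C,
      add_comm]
    rfl
  have h' : augR aug U (polyEq hLq hA hU hs P) = P.coeff 0 := by
    rw [h, map_add, map_mul, augR_str, augR_jv hA haug hU, zero_mul, add_zero]
  rw [h']
  exact h

include hLq hA haug hj0 hU hs in
/-- Over an affine open with a frame the zero section is where the frame vanishes. -/
theorem mem_range_iff (z : Spec (𝒜.presheaf.obj (op U))) :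
    𝒜.toQCAlg.ι U hU z ∈ Set.range j0 ↔ jv 𝒜.toQCAlg jL U s ∈ z.asIdeal := by
  constructor
  · rintro ⟨y, hy⟩
    have hyU : y ∈ U := by
      have h1 := congrArg 𝒜.toQCAlg.π hy
      rw [← Scheme.Hom.comp_apply, hj0.comp_π] at h1
      rw [show y = 𝒜.toQCAlg.π (𝒜.toQCAlg.ι U hU z) from h1]
      exact (𝒜.toQCAlg.π_preimage U hU).ge ⟨z, rfl⟩
    obtain ⟨q, rfl⟩ := hU.range_fromSpec.ge hyU
    have hz : Spec.map (aug.hom.app (op U)) q = z := by
      refine (𝒜.toQCAlg.ι U hU).isOpenEmbedding.injective ?_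
      exact (congr($(hj0.chart U hU) q)).symm.trans hy
    rw [← hz]
    show augR aug U (jv 𝒜.toQCAlg jL U s) ∈ q.asIdeal
    rw [augR_jv hA haug hU]
    exact zero_mem _
  · intro ht
    let q : Spec Γ(X, U) := ⟨z.asIdeal.comap (𝒜.str.app (op U)).hom, Ideal.comap_isPrime _ _⟩
    have hz : Spec.map (aug.hom.app (op U)) q = z := by
      refine PrimeSpectrum.ext (Ideal.ext fun x => ?_)
      obtain ⟨a, ha⟩ := exists_decomp hLq hA haug hU hs x
      show (𝒜.str.app (op U)).hom (augR aug U x) ∈ z.asIdeal ↔ x ∈ z.asIdeal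
      conv_rhs => rw [ha]
      exact (Submodule.add_mem_iff_left _ (z.asIdeal.mul_mem_right a ht)).symm
    refine ⟨hU.fromSpec q, ?_⟩
    exact (congr($(hj0.chart U hU) q)).trans (congrArg (𝒜.toQCAlg.ι U hU) hz)

/-- The expansion along the zero section in a frame. -/
def expand : 𝒜.presheaf.obj (op U) →+* PowerSeries Γ(X, U) :=
  (Polynomial.coeToPowerSeries.ringHom).comp (polyEq hLq hA hU hs).symm.toRingHom

theorem expand_polyEq (P : Polynomial Γ(X, U)) :
    expand hLq hA hU hs (polyEq hLq hA hU hs P) = (P : PowerSeries Γ(X, U)) := by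
  show ((((polyEq hLq hA hU hs).symm (polyEq hLq hA hU hs P) : Polynomial Γ(X, U))) : PowerSeries Γ(X, U)) = _
  rw [RingEquiv.symm_apply_apply]

theorem expand_str (r : Γ(X, U)) :
    expand hLq hA hU hs ((𝒜.str.app (op U)).hom r) = PowerSeries.C r := by
  rw [← show polyEq hLq hA hU hs (Polynomial.C r) = (𝒜.str.app (op U)).hom r from Polynomial.eval₂_C _ _,
    expand_polyEq, Polynomial.coe_C]

theorem expand_jv : expand hLq hA hU hs (jv 𝒜.toQCAlg jL U s) = PowerSeries.X := by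
  rw [← show polyEq hLq hA hU hs Polynomial.X = jv 𝒜.toQCAlg jL U s from Polynomial.eval₂_X _ _,
    expand_polyEq, Polynomial.coe_X]

include haug in
theorem constantCoeff_expand :
    (PowerSeries.constantCoeff (R := Γ(X, U))).comp (expand hLq hA hU hs) = augR aug U := by
  refine RingHom.ext fun x => ?_
  obtain ⟨a, ha⟩ := exists_decomp hLq hA haug hU hs x
  conv_lhs => rw [ha]
  rw [RingHom.comp_apply, map_add, map_mul, expand_str, expand_jv, map_add, map_mul,
    PowerSeries.constantCoeff_C, PowerSeries.constantCoeff_X, zero_mul, add_zero]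

/-- The formal neighbourhood of the zero section over an affine open with a frame. -/
def fnbhd : Spec (CommRingCat.of (PowerSeries Γ(X, U))) ⟶ 𝒜.toQCAlg.spec :=
  Spec.map (CommRingCat.ofHom (expand hLq hA hU hs)) ≫ 𝒜.toQCAlg.ι U hU

theorem fnbhd_π :
    fnbhd hLq hA hU hs ≫ 𝒜.toQCAlg.π =
      Spec.map (CommRingCat.ofHom (PowerSeries.C (R := Γ(X, U)))) ≫ hU.fromSpec := by
  rw [fnbhd, Category.assoc, 𝒜.toQCAlg.ι_π, ← Spec.map_comp_assoc]
  congr 2
  exact CommRingCat.hom_ext (RingHom.ext fun r => expand_str hLq hA hU hs r)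

include haug hj0 in
theorem fnbhd_constantCoeff :
    Spec.map (CommRingCat.ofHom (PowerSeries.constantCoeff (R := Γ(X, U)))) ≫ fnbhd hLq hA hU hs =
      hU.fromSpec ≫ j0 := by
  rw [hj0.chart U hU, fnbhd, ← Spec.map_comp_assoc]
  congr 2
  exact CommRingCat.hom_ext (constantCoeff_expand hLq hA haug hU hs)

include haug hj0 in
theorem fnbhd_notMem_range (P : Spec (CommRingCat.of (PowerSeries Γ(X, U))))
    (hP : (PowerSeries.X : PowerSeries Γ(X, U)) ∉ P.asIdeal) :
    fnbhd hLq hA hU hs P ∉ Set.range j0 := by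
  intro hmem
  have h1 := (mem_range_iff hLq hA haug hj0 hU hs (Spec.map (CommRingCat.ofHom (expand hLq hA hU hs)) P)).1 hmem
  revert h1
  show expand hLq hA hU hs (jv 𝒜.toQCAlg jL U s) ∉ P.asIdeal
  rw [expand_jv]
  exact hP

include haug hj0 in
/-- An open containing the zero section contains the formal neighbourhood. -/
theorem top_le_preimage_fnbhd {Ω : 𝒜.toQCAlg.spec.Opens} (h : ∀ x ∈ U, j0 x ∈ Ω) :
    ⊤ ≤ fnbhd hLq hA hU hs ⁻¹ᵁ Ω := by
  intro P _
  obtain ⟨M, hM, hPM⟩ := P.asIdeal.exists_le_maximal P.isPrime.ne_top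
  haveI := hM
  have hX : (PowerSeries.X : PowerSeries Γ(X, U)) ∈ M := by
    by_contra hX
    obtain ⟨y, m, hm, h1⟩ := hM.exists_inv hX
    refine hM.ne_top (M.eq_top_of_isUnit_mem hm (PowerSeries.isUnit_iff_constantCoeff.2 ?_))
    have h2 := congrArg PowerSeries.constantCoeff h1
    rw [map_add, map_mul, PowerSeries.constantCoeff_X, mul_zero, zero_add, map_one] at h2
    rw [h2]
    exact isUnit_one
  let M₀ : Spec Γ(X, U) := ⟨M.comap PowerSeries.C, Ideal.comap_isPrime _ _⟩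
  let M' : Spec (CommRingCat.of (PowerSeries Γ(X, U))) := ⟨M, hM.isPrime⟩
  have hM' : Spec.map (CommRingCat.ofHom (PowerSeries.constantCoeff (R := Γ(X, U)))) M₀ = M' := by
    refine PrimeSpectrum.ext (Ideal.ext fun f => ?_)
    show PowerSeries.C (PowerSeries.constantCoeff f) ∈ M ↔ f ∈ M
    conv_rhs => rw [PowerSeries.eq_X_mul_shift_add_const f]
    exact (Submodule.add_mem_iff_right _ (M.mul_mem_right _ hX)).symm
  have h1 : M' ∈ fnbhd hLq hA hU hs ⁻¹ᵁ Ω := by
    show fnbhd hLq hA hU hs M' ∈ Ω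
    rw [← hM', ← Scheme.Hom.comp_apply, fnbhd_constantCoeff hLq hA haug hj0 hU hs, Scheme.Hom.comp_apply]
    exact h _ (hU.range_fromSpec.le ⟨M₀, rfl⟩)
  exact ((PrimeSpectrum.le_iff_specializes P M').1 hPM).mem_open (fnbhd hLq hA hU hs ⁻¹ᵁ Ω).isOpen h1

variable {D : X.Opens} (hD : IsAffineOpen D) (hDU : D ≤ U) {s' : Γ(L, D)} (hs' : InvX.IsFrame s')

/-- Change of open and frame on power series. -/
def reframe (c : Γ(X, D)) : PowerSeries Γ(X, U) →+* PowerSeries Γ(X, D) :=
  (PowerSeries.rescale c).comp (PowerSeries.map (X.presheaf.map (homOfLE hDU).op).hom)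

theorem coeff_reframe (c : Γ(X, D)) (n : ℕ) (f : PowerSeries Γ(X, U)) :
    PowerSeries.coeff n (reframe hDU c f) = c ^ n * resR hDU (PowerSeries.coeff n f) := by
  show PowerSeries.coeff n (PowerSeries.rescale c (PowerSeries.map _ f)) = _
  rw [PowerSeries.coeff_rescale, PowerSeries.coeff_map]
  rfl

theorem expand_rs {c : Γ(X, D)} (hc : AModX.res L hDU s = c • s') (x : 𝒜.presheaf.obj (op U)) :
    expand hLq hA hD hs' (QRel17.rs 𝒜 hDU x) = reframe hDU c (expand hLq hA hU hs x) := by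
  obtain ⟨P, rfl⟩ := (polyEq hLq hA hU hs).surjective x
  rw [expand_polyEq]
  induction P using Polynomial.induction_on with
  | C a =>
    rw [polyEq_apply, Polynomial.eval₂_C, QRel17.rs_str, expand_str, Polynomial.coe_C]
    ext n
    rw [coeff_reframe, PowerSeries.coeff_C, PowerSeries.coeff_C]
    split_ifs with hn
    · subst hn; rw [pow_zero, one_mul]
    · exact (by rw [resR, map_zero, mul_zero])
  | add f g hf hg => rw [map_add, map_add, map_add, hf, hg, Polynomial.coe_add, map_add]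
  | monomial n a _ =>
    have h1 : polyEq hLq hA hU hs (Polynomial.C a * Polynomial.X ^ (n + 1)) =
        (𝒜.str.app (op U)).hom a * jv 𝒜.toQCAlg jL U s ^ (n + 1) := by
      rw [polyEq_apply, Polynomial.eval₂_mul, Polynomial.eval₂_C, Polynomial.eval₂_pow, Polynomial.eval₂_X]
    rw [h1, map_mul, map_pow, QRel17.rs_str, QRel17.rs_jv, show res L hDU s = c • s' from hc, RelVA16.jv_smul,
      map_mul, map_pow, map_mul, expand_str, expand_str, expand_jv, Polynomial.coe_mul, Polynomial.coe_C,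
      Polynomial.coe_pow, Polynomial.coe_X, map_mul, map_pow]
    have hX : reframe hDU c (PowerSeries.X : PowerSeries Γ(X, U)) = PowerSeries.C c * PowerSeries.X := by
      show PowerSeries.rescale c (PowerSeries.map _ PowerSeries.X) = _
      rw [PowerSeries.map_X, PowerSeries.rescale_X]
    have hC : reframe hDU c (PowerSeries.C a) = PowerSeries.C (resR hDU a) := by
      ext m
      rw [coeff_reframe, PowerSeries.coeff_C, PowerSeries.coeff_C]
      split_ifs with hm
      · subst hm; rw [pow_zero, one_mul]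
      · exact (by rw [resR, map_zero, mul_zero])
    rw [hX, hC]

include hj0 in
theorem appLE_vertex (b : Γ(𝒜.toQCAlg.spec, 𝒜.toQCAlg.π ⁻¹ᵁ U))
    (e : U ≤ j0 ⁻¹ᵁ (𝒜.toQCAlg.π ⁻¹ᵁ U)) :
    (j0.appLE (𝒜.toQCAlg.π ⁻¹ᵁ U) U e).hom b = augR aug U ((𝒜.toQCAlg.gammaAff U hU).hom b) := by
  have hfs : hU.fromSpec.appLE U ⊤ hU.fromSpec_preimage_self.ge ≫ (Scheme.ΓSpecIso _).hom = 𝟙 _ := by
    rw [Scheme.Hom.appLE, hU.fromSpec_app_self]
    simp only [Category.assoc, ← Functor.map_comp_assoc]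
    erw [(Spec Γ(X, U)).presheaf.map_id]
    simp
  suffices key : j0.appLE (𝒜.toQCAlg.π ⁻¹ᵁ U) U e = 𝒜.toQCAlg.gammaAff U hU ≫ aug.hom.app (op U) from
    congr($(key).hom b)
  have h1 : (Spec.map (aug.hom.app (op U))).appLE ⊤ ⊤ le_top ≫ (Scheme.ΓSpecIso _).hom =
      (Scheme.ΓSpecIso _).hom ≫ aug.hom.app (op U) := by
    rw [← Scheme.ΓSpecIso_naturality]
    refine congrArg (· ≫ _) ?_
    rw [Scheme.Hom.appTop, Scheme.Hom.app_eq_appLE]
    rfl
  calc j0.appLE (𝒜.toQCAlg.π ⁻¹ᵁ U) U e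
      = j0.appLE (𝒜.toQCAlg.π ⁻¹ᵁ U) U e ≫ hU.fromSpec.appLE U ⊤ hU.fromSpec_preimage_self.ge ≫
          (Scheme.ΓSpecIso _).hom := by rw [hfs, Category.comp_id]
    _ = (Spec.map (aug.hom.app (op U)) ≫ 𝒜.toQCAlg.ι U hU).appLE (𝒜.toQCAlg.π ⁻¹ᵁ U) ⊤
          ((hU.fromSpec_preimage_self.ge.trans (hU.fromSpec.preimage_mono e)).trans_eq (by rw [← hj0.chart U hU]; rfl)) ≫
          (Scheme.ΓSpecIso _).hom := by
        rw [← Category.assoc, Scheme.Hom.appLE_comp_appLE]
        simp only [← hj0.chart U hU]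
        rfl
    _ = _ := by
        rw [← Scheme.Hom.appLE_comp_appLE (Spec.map (aug.hom.app (op U))) (𝒜.toQCAlg.ι U hU) _ ⊤ _
            (𝒜.toQCAlg.top_le_preimage U hU) le_top, Category.assoc, h1, RelSpec.QCAlg.gammaAff, Category.assoc]

include hU in
theorem preimage_basicOpen_ι {O : X.Opens} (h : U ≤ O) (b : Γ(𝒜.toQCAlg.spec, 𝒜.toQCAlg.π ⁻¹ᵁ O)) :
    (𝒜.toQCAlg.ι U hU ⁻¹ᵁ 𝒜.toQCAlg.spec.basicOpen b : Set (Spec (𝒜.presheaf.obj (op U)))) =
      (PrimeSpectrum.basicOpen
        (QRel17.rs 𝒜 h ((𝒜.toQCAlg.gammaMap.app (op O)).hom b) : 𝒜.presheaf.obj (op U)) :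
        Set (PrimeSpectrum (𝒜.presheaf.obj (op U)))) := by
  have h1 := Scheme.basicOpen_appLE (𝒜.toQCAlg.ι U hU) ⊤ _ (RelSpecX.top_le_preimage' 𝒜.toQCAlg hU h) b
  rw [top_inf_eq, basicOpen_eq_of_affine'] at h1
  rw [← h1]
  refine congrArg (fun x : 𝒜.presheaf.obj (op U) =>
    (PrimeSpectrum.basicOpen x : Set (PrimeSpectrum (𝒜.presheaf.obj (op U))))) ?_
  exact congr($(RelSpecX.ι_appLE_mono 𝒜.toQCAlg hU h).hom b)

end Groth.Agent.Contract17
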